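import Cfsg.Agent.Rank3.Coprime
import Cfsg.Agent.ThreeSizes.Main
import Cfsg.Agent.FGS75.Kazarin
import Cfsg.Agent.Signalizer.Functor

/-!
Class sizes in a centreless group: elementary tools.
-/

set_option autoImplicit false

namespace Cfsg.Agent.Centre3

open Subgroup CsPSL Rank3
open scoped Classical

variable {G : Type*} [Group G] [Finite G]

theorem exists_part {g : G} (hg : g ≠ 1) :
    ∃ (r : ℕ) (u : G), r.Prime ∧ u ≠ 1 ∧ u ∈ zpowers g ∧ ∃ k, orderOf u = r ^ k := by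
  obtain ⟨r, hr, hrd⟩ := Nat.exists_prime_and_dvd (fun e => hg (orderOf_eq_one_iff.1 e))
  obtain ⟨u, v, hu, -, huv, hk, hv⟩ := exists_p_split r hr g
  refine ⟨r, u, hr, fun e => hv ?_, hu, hk⟩
  rw [e, one_mul] at huv
  rwa [huv]

omit [Finite G] in
theorem orderOf_pow_coprime {r p : ℕ} (hr : r.Prime) (hp : p.Prime) (hne : r ≠ p) {u v : G}
    (hu : ∃ k, orderOf u = r ^ k) (hv : ∃ k, orderOf v = p ^ k) :
    Nat.Coprime (orderOf u) (orderOf v) := by
  obtain ⟨i, hi⟩ := hu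
  obtain ⟨j, hj⟩ := hv
  rw [hi, hj]
  exact ((Nat.coprime_primes hr hp).2 hne).pow i j

theorem idx_dvd_of_le {u v : G} (h : cent u ≤ cent v) : idx v ∣ idx u := Subgroup.index_dvd_of_le h

theorem idx_one : idx (1 : G) = 1 := Subgroup.index_eq_one.2 (mem_center_iff_cent.1 (one_mem _))

theorem dvd_orderOf_of_pow {r : ℕ} {u : G} (hu : u ≠ 1) (hk : ∃ k, orderOf u = r ^ k) :
    r ∣ orderOf u := by
  obtain ⟨k, hk⟩ := hk
  rcases k with _ | k
  · rw [pow_zero] at hk; exact absurd (orderOf_eq_one_iff.1 hk) hu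
  · rw [hk]; exact dvd_pow_self r k.succ_ne_zero

theorem isPGroup_zpowers {r : ℕ} [Fact r.Prime] {u : G} (hk : ∃ k, orderOf u = r ^ k) :
    IsPGroup r ↥(zpowers u) := by
  obtain ⟨k, hk⟩ := hk
  exact IsPGroup.of_card (n := k) (by rw [Nat.card_zpowers, hk])

theorem pow_of_mem_pGroup {r : ℕ} [Fact r.Prime] {T : Subgroup G} (hT : IsPGroup r ↥T) {u : G}
    (hu : u ∈ T) : ∃ k, orderOf u = r ^ k := by
  obtain ⟨k, hk⟩ := IsPGroup.iff_orderOf.1 hT ⟨u, hu⟩
  exact ⟨k, (Subgroup.orderOf_mk u hu).symm.trans hk⟩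

/-- An element of prime order in a subgroup of order divisible by that prime. -/
theorem exists_orderOf_mem {r : ℕ} (hr : r.Prime) {T : Subgroup G} (hd : r ∣ Nat.card ↥T) :
    ∃ w ∈ T, w ≠ 1 ∧ orderOf w = r ∧ ∃ k, orderOf w = r ^ k := by
  haveI : Fact r.Prime := ⟨hr⟩
  obtain ⟨⟨w, hw⟩, hwo⟩ := exists_prime_orderOf_dvd_card' (G := ↥T) r hd
  rw [Subgroup.orderOf_mk] at hwo
  exact ⟨w, hw, fun e => hr.one_lt.ne (by rw [← hwo, e, orderOf_one]), hwo, 1, by rw [hwo, pow_one]⟩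

/-- If all elements of prime power order outside one prime lie in solvable normal subgroups, the
group is solvable. -/
theorem isSolvable_of_parts {q : ℕ} (hq : q.Prime)
    (h : ∀ (r : ℕ) (u : G), r.Prime → r ≠ q → (∃ k, orderOf u = r ^ k) →
      Group.IsSolvable (normalClosure ({u} : Set G))) : Group.IsSolvable G := by
  haveI : Fact q.Prime := ⟨hq⟩
  obtain ⟨N, ⟨hNn, hNs⟩, hmax⟩ := Set.Finite.exists_maximal
    (s := {N : Subgroup G | N.Normal ∧ Group.IsSolvable N}) (Set.toFinite _)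
    ⟨⊥, inferInstance, inferInstance⟩
  have hmem : ∀ (r : ℕ) (u : G), r.Prime → r ≠ q → (∃ k, orderOf u = r ^ k) → u ∈ N := by
    intro r u hr hrq hk
    have hs := h r u hr hrq hk
    haveI := hNn
    have hle : N ⊔ normalClosure ({u} : Set G) ≤ N :=
      hmax ⟨inferInstance, Signalizer.isSolvable_sup le_normalizer_of_normal hNs hs⟩ le_sup_left
    exact hle (mem_sup_right (subset_normalClosure rfl))
  haveI := hNn
  haveI : Group.IsSolvable ↥N := hNs
  have hp : IsPGroup q (G ⧸ N) := by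
    intro g
    obtain ⟨g, rfl⟩ := QuotientGroup.mk_surjective g
    obtain ⟨u, v, -, -, huv, ⟨k, hk⟩, hv⟩ := exists_p_split q hq g
    refine ⟨k, ?_⟩
    have hvN : v ∈ N := TwoRegSizes.mem_of_primePow fun y hy t j ht hj => by
      by_cases hy1 : y = 1
      · rw [hy1]; exact one_mem _
      refine hmem t y ht (fun e => hv ?_) ⟨j, hj⟩
      rw [← e]
      exact (dvd_orderOf_of_pow hy1 ⟨j, hj⟩).trans (orderOf_dvd_of_mem_zpowers hy)
    rw [← huv, QuotientGroup.mk_mul, (QuotientGroup.eq_one_iff v).2 hvN, mul_one,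
      ← QuotientGroup.mk_pow, ← hk, pow_orderOf_eq_one, QuotientGroup.mk_one]
  haveI : Group.IsNilpotent (G ⧸ N) := hp.isNilpotent
  exact (Group.isSolvable_iff_subgroup_quotient N).2 ⟨inferInstance, inferInstance⟩

/-- The index of `H` inside a normal subgroup divides its index. -/
theorem relIndex_dvd_index_of_normal' (H K : Subgroup G) [K.Normal] : H.relIndex K ∣ H.index := by
  refine ⟨(H ⊔ K).index, ?_⟩
  have h1 := Subgroup.relIndex_mul_index (inf_le_left : H ⊓ K ≤ H)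
  have h2 := Subgroup.relIndex_mul_index (inf_le_right : H ⊓ K ≤ K)
  have h3 := Subgroup.relIndex_mul_index (le_sup_right : K ≤ H ⊔ K)
  rw [Subgroup.inf_relIndex_left] at h1
  rw [Subgroup.inf_relIndex_right, ← h3, Subgroup.relIndex_sup_right] at h2
  have h0 : K.relIndex H ≠ 0 := Subgroup.index_ne_zero_of_finite
  refine Nat.eq_of_mul_eq_mul_left (Nat.pos_of_ne_zero h0) ?_
  rw [h1, ← h2]
  ring

variable (hZ : Subgroup.center G = ⊥)
include hZ

theorem mem_center_iff_eq_one {g : G} : g ∈ Subgroup.center G ↔ g = 1 := by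
  rw [hZ, Subgroup.mem_bot]

theorem not_mem_center {g : G} (hg : g ≠ 1) : g ∉ Subgroup.center G := fun h =>
  hg ((mem_center_iff_eq_one hZ).1 h)

theorem one_lt_idx {g : G} (hg : g ≠ 1) : 1 < idx g := by
  have h0 : idx g ≠ 0 := Subgroup.index_ne_zero_of_finite
  have h1 : idx g ≠ 1 := fun h =>
    not_mem_center hZ hg (mem_center_iff_cent.2 (Subgroup.index_eq_one.1 h))
  omega

/-- A non-trivial element of the centre of a Sylow subgroup. -/
theorem exists_central {r : ℕ} [Fact r.Prime] (P : Sylow r G) (hr : r ∣ Nat.card G) :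
    ∃ z ∈ (P : Subgroup G), z ≠ 1 ∧ (∀ w ∈ (P : Subgroup G), w ∈ cent z) ∧ ¬ r ∣ idx z ∧
      ∃ k, orderOf z = r ^ k := by
  haveI : Nontrivial ↥(P : Subgroup G) := Finite.one_lt_card_iff_nontrivial.1 (by
    rw [P.card_eq_multiplicity]
    refine Nat.one_lt_pow ?_ (Fact.out : r.Prime).one_lt
    have := ((Fact.out : r.Prime).dvd_iff_one_le_factorization Nat.card_pos.ne').1 hr
    omega)
  haveI := P.2.center_nontrivial
  obtain ⟨⟨⟨z, hzP⟩, hz⟩, hz1⟩ := exists_ne (1 : Subgroup.center ↥(P : Subgroup G))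
  have hPz : ∀ w ∈ (P : Subgroup G), w ∈ cent z := fun w hw =>
    mem_cent.2 (congrArg Subtype.val (Subgroup.mem_center_iff.1 hz ⟨w, hw⟩))
  refine ⟨z, hzP, fun e => hz1 (Subtype.ext (Subtype.ext e)), hPz, fun hd => ?_,
    pow_of_mem_pGroup P.2 hzP⟩
  exact P.not_dvd_index (hd.trans (Subgroup.index_dvd_of_le hPz))

theorem exists_not_dvd_idx [Nontrivial G] {r : ℕ} (hr : r.Prime) : ∃ z : G, z ≠ 1 ∧ ¬ r ∣ idx z := by
  haveI : Fact r.Prime := ⟨hr⟩
  by_cases hd : r ∣ Nat.card G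
  · obtain ⟨P⟩ : Nonempty (Sylow r G) := inferInstance
    obtain ⟨z, -, hz1, -, hz, -⟩ := exists_central hZ P hd
    exact ⟨z, hz1, hz⟩
  · obtain ⟨z, hz⟩ := exists_ne (1 : G)
    exact ⟨z, hz, fun h => hd (h.trans (idx_dvd_card z))⟩

/-- A prime power element commutes with a Sylow-central element. -/
theorem exists_central_commute {r : ℕ} [Fact r.Prime] {w : G} (hw : ∃ k, orderOf w = r ^ k)
    (hr : r ∣ Nat.card G) :
    ∃ z : G, z ≠ 1 ∧ (∃ k, orderOf z = r ^ k) ∧ ¬ r ∣ idx z ∧ w ∈ cent z := by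
  obtain ⟨P, hP⟩ := (isPGroup_zpowers hw).exists_le_sylow
  obtain ⟨z, -, hz1, hPz, hz, hk⟩ := exists_central hZ P hr
  exact ⟨z, hz1, hk, hz, hPz w (hP (mem_zpowers w))⟩

/-- The centraliser of a product of commuting elements of coprime orders. -/
theorem mul_data {u v : G} (hu : u ≠ 1) (hc : Commute u v)
    (hco : Nat.Coprime (orderOf u) (orderOf v)) :
    u * v ≠ 1 ∧ cent (u * v) = cent u ⊓ cent v ∧ idx u ∣ idx (u * v) ∧ idx v ∣ idx (u * v) := by
  have he := cent_mul_eq_inf hc hco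
  refine ⟨fun e => ?_, he, idx_dvd_of_le (he ▸ inf_le_left), idx_dvd_of_le (he ▸ inf_le_right)⟩
  have := mem_center_iff_cent.1 ((mem_center_iff_eq_one hZ).2 e)
  rw [he, inf_eq_top_iff] at this
  exact not_mem_center hZ hu (mem_center_iff_cent.2 this.1)

end Cfsg.Agent.Centre3
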