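import Cfsg.Agent.Centre3.Base
import Cfsg.Agent.S4146

/-!
Three class sizes, one properly dividing another: the order of the group.
-/

set_option autoImplicit false

namespace Cfsg.Agent.Centre3

open Subgroup CsPSL Rank3
open scoped Classical

/-- Three class sizes `a, b, c` with `a` properly dividing `b`. -/
structure Chain (G : Type*) [Group G] (a b c : ℕ) : Prop where
  dvd : a ∣ b
  ne_ab : a ≠ b
  ne_ac : a ≠ c
  ne_bc : b ≠ c
  cases : ∀ g : G, g ≠ 1 → idx g = a ∨ idx g = b ∨ idx g = c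
  exA : ∃ g : G, g ≠ 1 ∧ idx g = a
  exB : ∃ g : G, g ≠ 1 ∧ idx g = b
  exC : ∃ g : G, g ≠ 1 ∧ idx g = c
  center_bot : Subgroup.center G = ⊥
  not_solvable : ¬ Group.IsSolvable G

namespace Chain

variable {G : Type*} [Group G] [Finite G] {a b c : ℕ} (C : Chain G a b c)
include C

theorem pos : 1 < a ∧ 1 < b ∧ 1 < c := by
  obtain ⟨x, hx, rfl⟩ := C.exA
  obtain ⟨y, hy, rfl⟩ := C.exB
  obtain ⟨z, hz, rfl⟩ := C.exC
  exact ⟨one_lt_idx C.center_bot hx, one_lt_idx C.center_bot hy, one_lt_idx C.center_bot hz⟩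

theorem coprime_ac : Nat.Coprime a c := by
  obtain ⟨x, hx, -⟩ := C.exA
  haveI : Nontrivial G := nontrivial_of_ne x 1 hx
  refine Nat.coprime_of_dvd fun r hr h1 h2 => ?_
  obtain ⟨z, hz, hzr⟩ := exists_not_dvd_idx C.center_bot hr
  rcases C.cases z hz with e | e | e <;> rw [e] at hzr
  exacts [hzr h1, hzr (h1.trans C.dvd), hzr h2]

theorem not_dvd : ¬ b ∣ a ∧ ¬ b ∣ c ∧ ¬ c ∣ a ∧ ¬ a ∣ c := by
  obtain ⟨ha, hb, hc⟩ := C.pos
  have h4 : ¬ a ∣ c := fun h => by
    have := Nat.eq_one_of_dvd_coprimes C.coprime_ac dvd_rfl h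
    omega
  refine ⟨fun h => C.ne_ab (Nat.dvd_antisymm C.dvd h), fun h => h4 (C.dvd.trans h), fun h => ?_, h4⟩
  have := Nat.eq_one_of_dvd_coprimes C.coprime_ac h dvd_rfl
  omega

theorem ne_mul : b ≠ a * c := by
  intro hb
  obtain ⟨ha, -, hc⟩ := C.pos
  have h : Set.range (fun x : G => (Subgroup.centralizer ({x} : Set G)).index) =
      ({1, a, c, a * c} : Set ℕ) := by
    rw [← hb]
    ext m
    simp only [Set.mem_range, Set.mem_insert_iff, Set.mem_singleton_iff]
    constructor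
    · rintro ⟨x, rfl⟩
      by_cases hx : x = 1
      · exact Or.inl (hx ▸ idx_one)
      · rcases C.cases x hx with e | e | e
        exacts [Or.inr (Or.inl e), Or.inr (Or.inr (Or.inr e)), Or.inr (Or.inr (Or.inl e))]
    · rintro (rfl | rfl | rfl | rfl)
      · exact ⟨1, idx_one⟩
      · exact C.exA.imp fun _ => And.right
      · exact C.exC.imp fun _ => And.right
      · exact C.exB.imp fun _ => And.right
  haveI := (S4146.result a c ha hc C.coprime_ac h).1
  exact C.not_solvable inferInstance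

theorem idx_eq_a_of_part {g u : G} (hg : idx g = a) (hu : u ≠ 1) (hug : u ∈ zpowers g) :
    idx u = a ∧ cent u = cent g := by
  have hle := cent_le_of_mem_zpowers hug
  have hd : idx u ∣ a := hg ▸ idx_dvd_of_le hle
  obtain ⟨n1, -, n3, -⟩ := C.not_dvd
  rcases C.cases u hu with e | e | e
  · exact ⟨e, (eq_of_le_of_index_eq hle (hg.trans e.symm)).symm⟩
  · exact absurd (e ▸ hd) n1
  · exact absurd (e ▸ hd) n3

theorem idx_eq_c_of_part {g u : G} (hg : idx g = c) (hu : u ≠ 1) (hug : u ∈ zpowers g) :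
    idx u = c ∧ cent u = cent g := by
  have hle := cent_le_of_mem_zpowers hug
  have hd : idx u ∣ c := hg ▸ idx_dvd_of_le hle
  obtain ⟨-, n2, -, n4⟩ := C.not_dvd
  rcases C.cases u hu with e | e | e
  · exact absurd (e ▸ hd) n4
  · exact absurd (e ▸ hd) n2
  · exact ⟨e, (eq_of_le_of_index_eq hle (hg.trans e.symm)).symm⟩

theorem prime_facts_a {r : ℕ} (hra : r ∣ a) : ∀ z : G, z ≠ 1 → ¬ r ∣ idx z → idx z = c :=
  fun z hz hzr => by
  rcases C.cases z hz with e | e | e
  · exact absurd (e ▸ hra) hzr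
  · exact absurd (e ▸ hra.trans C.dvd) hzr
  · exact e

theorem prime_facts_bc {r : ℕ} (hrb : r ∣ b) (hrc : r ∣ c) :
    ∀ z : G, z ≠ 1 → ¬ r ∣ idx z → idx z = a := fun z hz hzr => by
  rcases C.cases z hz with e | e | e
  · exact e
  · exact absurd (e ▸ hrb) hzr
  · exact absurd (e ▸ hrc) hzr

theorem prime_dvd_card {r : ℕ} (h : r ∣ a ∨ r ∣ b ∨ r ∣ c) : r ∣ Nat.card G := by
  obtain ⟨x, -, hx⟩ := C.exA
  obtain ⟨y, -, hy⟩ := C.exB
  obtain ⟨z, -, hz⟩ := C.exC
  rcases h with h | h | h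
  · exact h.trans (hx ▸ idx_dvd_card x)
  · exact h.trans (hy ▸ idx_dvd_card y)
  · exact h.trans (hz ▸ idx_dvd_card z)

/-- The product of commuting elements of class sizes `a` and `c`, coprime orders. -/
theorem not_commute_coprime {u v : G} (hu : u ≠ 1) (hua : idx u = a) (hvc : idx v = c)
    (hc : Commute u v) (hco : Nat.Coprime (orderOf u) (orderOf v)) : False := by
  obtain ⟨hne, he, -, -⟩ := mul_data C.center_bot hu hc hco
  have hi : idx (u * v) = a * c := by
    show (cent (u * v)).index = a * c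
    rw [he, index_inf_of_coprime (by
      show (idx u).Coprime (idx v)
      rw [hua, hvc]; exact C.coprime_ac)]
    exact congrArg₂ (· * ·) hua hvc
  obtain ⟨ha, -, hc'⟩ := C.pos
  rcases C.cases _ hne with e | e | e <;> rw [hi] at e
  · exact C.not_dvd.2.2.1 ⟨a, by rw [mul_comm]; exact e.symm⟩
  · exact C.ne_mul e.symm
  · exact C.not_dvd.2.2.2 ⟨c, e.symm⟩

/-- Elements with class sizes `a` and `c` do not commute. -/
theorem not_commute {x y : G} (hx : x ≠ 1) (hxa : idx x = a) (hy : y ≠ 1) (hyc : idx y = c) :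
    y ∉ cent x := by
  intro hyx
  obtain ⟨q, u, hq, hu, hux, huk⟩ := exists_part hx
  obtain ⟨hua, hue⟩ := C.idx_eq_a_of_part hxa hu hux
  obtain ⟨s, v, hs, hv, hvy, hvk⟩ := exists_part hy
  obtain ⟨hvc, hve⟩ := C.idx_eq_c_of_part hyc hv hvy
  have huv : Commute u v := by
    have h1 : v ∈ cent x := (zpowers_le.2 hyx) hvy
    rw [← hue] at h1
    exact (mem_cent.1 h1).symm
  by_cases hqs : q = s
  swap
  · exact C.not_commute_coprime hu hua hvc huv (orderOf_pow_coprime hq hs hqs huk hvk)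
  subst hqs
  obtain ⟨n1, n2, n3, n4⟩ := C.not_dvd
  have key : ∀ (r : ℕ), r.Prime → r ≠ q → r ∣ a → False := by
    intro r hr hrq hra
    haveI : Fact r.Prime := ⟨hr⟩
    have hrc : ¬ r ∣ idx v := fun h => hr.one_lt.ne'
      (Nat.eq_one_of_dvd_coprimes C.coprime_ac hra (hvc ▸ h))
    obtain ⟨R, hR⟩ := exists_sylow_le_of_not_dvd (cent v) hrc
    obtain ⟨w, hwR, hw, hRw, hwr, hwk⟩ :=
      exists_central C.center_bot R (C.prime_dvd_card (Or.inl hra))
    have hwc := C.prime_facts_a hra w hw hwr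
    have hco := orderOf_pow_coprime hr hq hrq hwk hvk
    obtain ⟨hne, he, -, hd⟩ := mul_data C.center_bot hw (mem_cent.1 (hR hwR)) hco
    have hnr : ¬ r ∣ idx (w * v) := fun h => R.not_dvd_index (h.trans
      (Subgroup.index_dvd_of_le (he ▸ le_inf hRw hR)))
    have hi := C.prime_facts_a hra _ hne hnr
    have e1 : cent (w * v) = cent w := eq_of_le_of_index_eq (he ▸ inf_le_left) (hi.trans hwc.symm)
    have e2 : cent (w * v) = cent v := eq_of_le_of_index_eq (he ▸ inf_le_right) (hi.trans hvc.symm)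
    have huw : u ∈ cent w := (e2.symm.trans e1).le (mem_cent.2 huv.eq)
    exact C.not_commute_coprime hu hua hwc (mem_cent.1 huw)
      (orderOf_pow_coprime hq hr (Ne.symm hrq) huk hwk)
  by_cases hA : ∀ r : ℕ, r.Prime → r ∣ a → r = q
  swap
  · push Not at hA
    obtain ⟨r, hr, hra, hrq⟩ := hA
    exact key r hr hrq hra
  have hak := Nat.eq_prime_pow_of_unique_prime_dvd (p := q) (show a ≠ 0 by have := C.pos; omega)
    fun {d} hd hdd => hA d hd hdd
  obtain ⟨ha, -, hc⟩ := C.pos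
  have hqa : q ∣ a := by
    obtain ⟨r, hr, hra⟩ := Nat.exists_prime_and_dvd (by omega : a ≠ 1)
    exact hA r hr hra ▸ hra
  by_cases hB : ∃ r : ℕ, r.Prime ∧ r ∣ c ∧ r ∣ b
  · obtain ⟨r, hr, hrc, hrb⟩ := hB
    haveI : Fact r.Prime := ⟨hr⟩
    have hra : ¬ r ∣ a := fun h => hr.one_lt.ne' (Nat.eq_one_of_dvd_coprimes C.coprime_ac h hrc)
    have hrq : r ≠ q := fun e => hra (e ▸ hqa)
    obtain ⟨R, hR⟩ := exists_sylow_le_of_not_dvd (cent u) (show ¬ r ∣ idx u by rw [hua]; exact hra)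
    obtain ⟨w, hwR, hw, hRw, hwr, hwk⟩ :=
      exists_central C.center_bot R (C.prime_dvd_card (Or.inr (Or.inr hrc)))
    have hwa := C.prime_facts_bc hrb hrc w hw hwr
    have hco := orderOf_pow_coprime hr hq hrq hwk huk
    obtain ⟨hne, he, -, hd⟩ := mul_data C.center_bot hw (mem_cent.1 (hR hwR)) hco
    have hnr : ¬ r ∣ idx (w * u) := fun h => R.not_dvd_index (h.trans
      (Subgroup.index_dvd_of_le (he ▸ le_inf hRw hR)))
    have hi := C.prime_facts_bc hrb hrc _ hne hnr
    have e1 : cent (w * u) = cent w := eq_of_le_of_index_eq (he ▸ inf_le_left) (hi.trans hwa.symm)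
    have e2 : cent (w * u) = cent u := eq_of_le_of_index_eq (he ▸ inf_le_right) (hi.trans hua.symm)
    have hvw : v ∈ cent w := (e2.symm.trans e1).le (mem_cent.2 huv.symm.eq)
    exact C.not_commute_coprime hw hwa hvc (mem_cent.1 hvw).symm
      (orderOf_pow_coprime hr hq hrq hwk hvk)
  -- `c` is prime to `b`
  push Not at hB
  have hbc : Nat.Coprime b c := Nat.coprime_of_dvd fun r hr h1 h2 => hB r hr h2 h1
  have hcb : ¬ c ∣ b := fun h => by
    have := Nat.eq_one_of_dvd_coprimes hbc h dvd_rfl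
    omega
  have hiso : ∀ g : G, g ≠ 1 → idx g = c → Isolated g := by
    intro g hg hgc
    refine isolated_of_index (not_mem_center C.center_bot hg)
      (fun t ht hd => ?_) (fun t ht hd => ?_) <;>
      rcases C.cases t (fun e => ht (e ▸ one_mem _)) with e | e | e <;>
      first
        | exact e.trans hgc.symm
        | (rw [show (cent g).index = c from hgc, show (cent t).index = _ from e] at hd
           exfalso
           first | exact n3 hd | exact hcb hd | exact n4 hd | exact n2 hd)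
  haveI : Fact q.Prime := ⟨hq⟩
  -- the centraliser of an element of class size `c` is a `q`-group
  have hqgrp : ∀ g : G, g ≠ 1 → idx g = c → ∀ r : ℕ, r.Prime → (∃ k, orderOf g = r ^ k) →
      (∀ u' ∈ cent g, ∀ v' ∈ cent g, u' * v' = v' * u') ∨ (r = q ∧ IsPGroup q ↥(cent g)) := by
    intro g hg hgc r hr hk
    rcases (hiso g hg hgc).comm_or_pgroup hr hk with h | h
    · exact Or.inl h
    haveI : Fact r.Prime := ⟨hr⟩
    have hgrp : IsPGroup r ↥(cent g) := by
      rintro ⟨t, ht⟩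
      obtain ⟨j, hj⟩ := h t ht
      exact ⟨j, Subtype.ext ((mem_center_iff_eq_one C.center_bot).1 hj)⟩
    obtain ⟨Q, hQ⟩ := exists_sylow_le_of_not_dvd (cent g) (show ¬ q ∣ idx g by
      rw [hgc]; exact fun h => hq.one_lt.ne' (Nat.eq_one_of_dvd_coprimes C.coprime_ac hqa h))
    obtain ⟨w, hwQ, hw, -, -, hwk⟩ :=
      exists_central C.center_bot Q (C.prime_dvd_card (Or.inl hqa))
    have hrq : r = q := by
      by_contra hne
      exact hq.one_lt.ne' (Nat.eq_one_of_dvd_coprimes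
        (orderOf_pow_coprime hr hq hne (pow_of_mem_pGroup hgrp (hQ hwQ)) hwk)
        (dvd_orderOf_of_pow hw hwk) (dvd_orderOf_of_pow hw hwk))
    exact Or.inr ⟨hrq, hrq ▸ hgrp⟩
  rcases hqgrp v hv hvc q hq hvk with hab | ⟨-, hgrp⟩
  · have hle : cent v ≤ cent u := fun t ht =>
      mem_cent.2 (hab t ht u (mem_cent.2 huv.eq))
    have := idx_dvd_of_le hle
    rw [hua, hvc] at this
    exact n4 this
  -- the order of `G` is `c` times a power of `q`
  obtain ⟨n, hn⟩ := hgrp.exists_card_eq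
  have hcard := ord_mul_index v
  change ord v * idx v = _ at hcard
  rw [show ord v = q ^ n from hn, hvc] at hcard
  obtain ⟨g, -, hgb⟩ := C.exB
  have hbd : b ∣ q ^ n := by
    refine Nat.Coprime.dvd_of_dvd_mul_right hbc ?_
    rw [hcard, ← hgb]
    exact idx_dvd_card g
  obtain ⟨i, -, hbi⟩ := (Nat.dvd_prime_pow hq).1 hbd
  refine C.not_solvable (isSolvable_of_parts hq fun r w hr hrq hwk => ?_)
  have hpow : ∃ i, idx w = q ^ i := by
    by_cases hw : w = 1
    · exact ⟨0, by rw [hw, idx_one, pow_zero]⟩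
    rcases C.cases w hw with e | e | e
    · exact ⟨_, e.trans hak⟩
    · exact ⟨i, e.trans hbi⟩
    exfalso
    rcases hqgrp w hw e r hr hwk with hab | ⟨h, -⟩
    swap
    · exact hrq h
    obtain ⟨Q, hQ⟩ := exists_sylow_le_of_not_dvd (cent w) (show ¬ q ∣ idx w by
      rw [e]; exact fun h => hq.one_lt.ne' (Nat.eq_one_of_dvd_coprimes C.coprime_ac hqa h))
    obtain ⟨t, ht⟩ := exists_conj_le_of_sylow (C := cent w) (show ¬ q ∣ idx w by
      rw [e]; exact fun h => hq.one_lt.ne' (Nat.eq_one_of_dvd_coprimes C.coprime_ac hqa h))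
      (isPGroup_zpowers huk)
    set u' := t * u * t⁻¹ with hu'
    have h1 : u' ∈ cent w := ht u (mem_zpowers u)
    have hle : cent w ≤ cent u' := fun s hs => mem_cent.2 (hab s hs u' h1)
    have h2 := idx_dvd_of_le hle
    rw [hu', idx_conj, hua, e] at h2
    exact n4 h2
  obtain ⟨i, hi⟩ := hpow
  exact FGS75.kazarin _ le_rfl w hq hi

/-- An element of class size `a` and a Sylow-central element for a prime dividing `a`. -/
theorem exists_pair : ∃ (q r : ℕ) (x y : G), q.Prime ∧ r.Prime ∧ q ≠ r ∧ r ∣ a ∧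
    x ≠ 1 ∧ idx x = a ∧ (∃ k, orderOf x = q ^ k) ∧ y ≠ 1 ∧ idx y = c ∧ ∃ k, orderOf y = r ^ k := by
  obtain ⟨x, hx, hxa⟩ := C.exA
  obtain ⟨q, u, hq, hu, hux, huk⟩ := exists_part hx
  obtain ⟨hua, -⟩ := C.idx_eq_a_of_part hxa hu hux
  obtain ⟨r, hr, hra⟩ := Nat.exists_prime_and_dvd (by have := C.pos; omega : a ≠ 1)
  haveI : Fact r.Prime := ⟨hr⟩
  obtain ⟨R⟩ : Nonempty (Sylow r G) := inferInstance
  obtain ⟨y, -, hy, -, hyr, hyk⟩ := exists_central C.center_bot R (C.prime_dvd_card (Or.inl hra))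
  refine ⟨q, r, u, y, hq, hr, fun e => ?_, hra, hu, hua, huk, hy, C.prime_facts_a hra y hy hyr, hyk⟩
  subst e
  obtain ⟨z, hz, -, hzr, hwz⟩ := exists_central_commute C.center_bot huk
    (C.prime_dvd_card (Or.inl hra))
  exact C.not_commute hu hua hz (C.prime_facts_a hra z hz hzr) (mem_cent_symm hwz)

theorem card_eq : Nat.card G = a * c := by
  obtain ⟨q, r, x, y, hq, hr, hqr, -, hx, hxa, hxk, hy, hyc, hyk⟩ := C.exists_pair
  obtain ⟨n1, n2, -, -⟩ := C.not_dvd
  have hbot : cent x ⊓ cent y = ⊥ := by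
    rw [← Subgroup.card_eq_one]
    by_contra hne
    obtain ⟨t, ht, htd⟩ := Nat.exists_prime_and_dvd hne
    obtain ⟨w, ⟨hwx, hwy⟩, hw, -, hwk⟩ := exists_orderOf_mem ht htd
    have hwb : idx w = b := by
      rcases C.cases w hw with e | e | e
      · exact absurd (mem_cent_symm hwy) (C.not_commute hw e hy hyc)
      · exact e
      · exact absurd hwx (C.not_commute hx hxa hw e)
    have key : ∀ v : G, w ∈ cent v → Nat.Coprime (orderOf w) (orderOf v) → cent w ≤ cent v := by
      intro v hwv hco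
      obtain ⟨hne, he, hd, -⟩ := mul_data C.center_bot hw (mem_cent.1 hwv) hco
      rw [hwb] at hd
      have e1 : cent (w * v) = cent w := by
        refine eq_of_le_of_index_eq (he ▸ inf_le_left) ?_
        rcases C.cases _ hne with e | e | e
        · exact absurd (e ▸ hd) n1
        · exact e.trans hwb.symm
        · exact absurd (e ▸ hd) n2
      exact e1 ▸ he ▸ inf_le_right
    by_cases htr : t = r
    · have hle := key x hwx (orderOf_pow_coprime ht hq (htr ▸ Ne.symm hqr) hwk hxk)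
      exact C.not_commute hx hxa hy hyc (hle (mem_cent_symm hwy))
    · have hle := key y hwy (orderOf_pow_coprime ht hr htr hwk hyk)
      exact C.not_commute hx hxa hy hyc (mem_cent_symm (hle (mem_cent_symm hwx)))
  have h1 := index_inf_of_coprime (A := cent x) (B := cent y) (by
    show (idx x).Coprime (idx y)
    rw [hxa, hyc]; exact C.coprime_ac)
  rw [hbot, Subgroup.index_bot] at h1
  rw [h1]
  exact congrArg₂ (· * ·) hxa hyc

theorem dvd_mul : b ∣ a * c := by
  obtain ⟨g, -, hg⟩ := C.exB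
  rw [← C.card_eq, ← hg]
  exact idx_dvd_card g

theorem not_c_dvd_b : ¬ c ∣ b := fun h =>
  C.ne_mul (Nat.dvd_antisymm C.dvd_mul (C.coprime_ac.mul_dvd_of_dvd_of_dvd C.dvd h))

theorem ord_eq {g : G} :
    (idx g = a → ord g = c) ∧ (idx g = c → ord g = a) ∧ (idx g = b → ord g ∣ c) := by
  have h := ord_mul_index g
  rw [C.card_eq] at h
  obtain ⟨ha, hb, hc⟩ := C.pos
  refine ⟨fun e => ?_, fun e => ?_, fun e => ?_⟩ <;>
    · change ord g * idx g = a * c at h
      rw [e] at h
      first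
        | exact Nat.eq_of_mul_eq_mul_right (by omega) (h.trans (mul_comm a c))
        | exact Nat.eq_of_mul_eq_mul_right (by omega) h
        | (obtain ⟨k, hk⟩ := C.dvd
           refine ⟨k, ?_⟩
           refine Nat.eq_of_mul_eq_mul_left (show 0 < a by omega) ?_
           rw [← h, hk]; ring)

theorem prime_facts_c {r : ℕ} (hr : r.Prime) (hrb : r ∣ b) (hra : ¬ r ∣ a) :
    r ∣ c ∧ ∀ z : G, z ≠ 1 → ¬ r ∣ idx z → idx z = a := by
  have hrc : r ∣ c := ((Nat.Prime.dvd_mul hr).1 (hrb.trans C.dvd_mul)).resolve_left hra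
  exact ⟨hrc, C.prime_facts_bc hrb hrc⟩

theorem exists_prime_quot : ∃ p : ℕ, p.Prime ∧ p ∣ b ∧ ¬ p ∣ a := by
  obtain ⟨ha, -, -⟩ := C.pos
  obtain ⟨k, hk⟩ := C.dvd
  have hk1 : k ≠ 1 := fun e => C.ne_ab (by rw [hk, e, mul_one])
  obtain ⟨p, hp, hpk⟩ := Nat.exists_prime_and_dvd hk1
  refine ⟨p, hp, hk ▸ hpk.mul_left a, fun hpa => ?_⟩
  have hkc : k ∣ c := Nat.dvd_of_mul_dvd_mul_left (by omega) (hk ▸ C.dvd_mul)
  exact hp.one_lt.ne' (Nat.eq_one_of_dvd_coprimes C.coprime_ac hpa (hpk.trans hkc))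

theorem exists_pivot {p : ℕ} (hp : p.Prime) (hpb : p ∣ b) (hpa : ¬ p ∣ a) :
    ∃ x : G, x ≠ 1 ∧ (∃ k, orderOf x = p ^ k) ∧ idx x = a := by
  haveI : Fact p.Prime := ⟨hp⟩
  obtain ⟨R⟩ : Nonempty (Sylow p G) := inferInstance
  obtain ⟨z, -, hz, -, hzr, hzk⟩ :=
    exists_central C.center_bot R (C.prime_dvd_card (Or.inr (Or.inl hpb)))
  exact ⟨z, hz, hzk, (C.prime_facts_c hp hpb hpa).2 z hz hzr⟩

theorem coprime_orderOf {g : G} (hg : g ≠ 1) (hgc : idx g ≠ c) : Nat.Coprime a (orderOf g) := by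
  refine Nat.Coprime.of_dvd_right ((orderOf_dvd_ord g).trans ?_) C.coprime_ac
  rcases C.cases g hg with e | e | e
  · exact C.ord_eq.1 e ▸ dvd_rfl
  · exact C.ord_eq.2.2 e
  · exact absurd e hgc

theorem isolated_c {y : G} (hy : y ≠ 1) (hyc : idx y = c) : Isolated y := by
  obtain ⟨n1, n2, n3, n4⟩ := C.not_dvd
  refine isolated_of_index (not_mem_center C.center_bot hy) (fun g hg hd => ?_) (fun g hg hd => ?_) <;>
    rcases C.cases g (fun e => hg (e ▸ one_mem _)) with e | e | e <;>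
    first
      | exact e.trans hyc.symm
      | (rw [show (cent y).index = c from hyc, show (cent g).index = _ from e] at hd
         exfalso
         first | exact n3 hd | exact C.not_c_dvd_b hd | exact n4 hd | exact n2 hd)

/-- The centraliser of an element of class size `a` is solvable. -/
theorem cent_a_solvable {x : G} (hx : x ≠ 1) (hxa : idx x = a) : Group.IsSolvable ↥(cent x) := by
  obtain ⟨q, u, hq, hu, hux, huk⟩ := exists_part hx
  obtain ⟨hua, hue⟩ := C.idx_eq_a_of_part hxa hu hux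
  rw [← hue]
  set H := cent u with hH
  obtain ⟨k, hk⟩ := C.dvd
  refine ThreeSizes.solvable_of_twoSizes (q := q) (m := k) hq fun v hv hvc => ?_
  rw [ClassSize.centralizer_subgroupOf]
  show (cent (v : G)).relIndex H = k
  have hcm : Commute u (v : G) := (mem_cent.1 v.2).symm
  have hco : (orderOf u).Coprime (orderOf (v : G)) := by
    obtain ⟨j, hj⟩ := huk
    rw [hj, orderOf_coe]
    exact hv.symm.pow_left j
  obtain ⟨hne, he, hd, -⟩ := mul_data C.center_bot hu hcm hco
  rw [hua] at hd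
  rcases C.cases _ hne with e | e | e
  · exfalso
    refine hvc (mem_center_iff.2 fun g => Subtype.ext ?_)
    have h1 : cent (u * (v : G)) = H := eq_of_le_of_index_eq (he ▸ inf_le_left) (e.trans hua.symm)
    have : (g : G) ∈ cent (v : G) := (h1.symm.le.trans (he.le.trans inf_le_right)) g.2
    exact mem_cent.1 this
  · have h1 := relIndex_mul_index (inf_le_left : H ⊓ cent (v : G) ≤ H)
    rw [inf_relIndex_left, ← he, show (cent (u * (v : G))).index = b from e,
      show H.index = a from hua, hk, mul_comm a k] at h1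
    exact Nat.eq_of_mul_eq_mul_right (by have := C.pos; omega) h1
  · exact absurd (e ▸ hd) C.not_dvd.2.2.2

end Chain

end Cfsg.Agent.Centre3
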