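import Cfsg.Agent.Centre3.Base
import Cfsg.Agent.OddLocal.NoncyclicAction
import Mathlib.GroupTheory.SpecificGroups.Cyclic

/-!
A subgroup with two normal elementary abelian subgroups for different primes in which noncentral
elements of prime power order have a constant class size divisible by both primes.
-/

set_option autoImplicit false

namespace Cfsg.Agent.Centre3

open Subgroup CsPSL Rank3 Finset
open scoped Classical

/-- A fixed point lemma for two commuting automorphisms of coprime order. -/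
theorem fixed_of_pair {M : Type*} [CommGroup M] {p : ℕ} (hp : p.Prime)
    (hM : ∀ v : M, v ^ p = 1 → v = 1) (β ε : MulAut M) (hβ : β ^ p = 1) (hε : ε ^ p = 1)
    (hc : Commute β ε) (h1 : ∀ v : M, ε v = v → β v = v)
    (h2 : ∀ (j : ℕ) (v : M), (β * ε ^ j) v = v → β v = v) (v₀ : M) : β v₀ = v₀ := by
  have hN : ∀ (j : ℕ) (v : M),
      β (∏ i ∈ range p, ((β * ε ^ j) ^ i) v) = ∏ i ∈ range p, ((β * ε ^ j) ^ i) v := fun j v => by
    refine h2 j _ (OddLocal.prod_orbit_fixed _ ?_ v)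
    rw [(hc.pow_right j).mul_pow, hβ, ← pow_mul, mul_comm j p, pow_mul, hε, one_pow, one_mul]
  have hE : ∀ v : M, β (∏ i ∈ range p, (ε ^ i) v) = ∏ i ∈ range p, (ε ^ i) v :=
    fun v => h1 _ (OddLocal.prod_orbit_fixed _ hε v)
  have h : β (∏ j ∈ range p, ∏ i ∈ range p, ((β * ε ^ j) ^ i) v₀) =
      ∏ j ∈ range p, ∏ i ∈ range p, ((β * ε ^ j) ^ i) v₀ := by
    rw [map_prod]
    exact prod_congr rfl fun j _ => hN j v₀
  have hterm : ∀ i j : ℕ, ((β * ε ^ j) ^ i) v₀ = (β ^ i) ((ε ^ (j * i % p)) v₀) := by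
    intro i j
    rw [(hc.pow_right j).mul_pow, ← pow_mul, pow_eq_pow_mod _ hε]
    rfl
  have hcol : ∀ i ∈ range p, i ≠ 0 →
      ∏ j ∈ range p, ((β * ε ^ j) ^ i) v₀ = (β ^ i) (∏ m ∈ range p, (ε ^ m) v₀) := by
    intro i hi hi0
    have hi' : i < p := mem_range.mp hi
    have hinj : Set.InjOn (fun j => j * i % p) (range p : Finset ℕ) := by
      intro a ha b hb hab
      simp only [coe_range, Set.mem_Iio] at ha hb
      have hab' : a * i ≡ b * i [MOD p] := hab
      have hcop : p.gcd i = 1 := (Nat.Prime.coprime_iff_not_dvd hp).mpr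
        fun hd => absurd (Nat.le_of_dvd (Nat.pos_of_ne_zero hi0) hd) (not_le.mpr hi')
      have := Nat.ModEq.cancel_right_of_coprime hcop hab'
      rwa [Nat.ModEq, Nat.mod_eq_of_lt ha, Nat.mod_eq_of_lt hb] at this
    have himg : (range p).image (fun j => j * i % p) = range p := by
      refine eq_of_subset_of_card_le ?_ ?_
      · intro k hk
        obtain ⟨j, -, rfl⟩ := mem_image.mp hk
        exact mem_range.mpr (Nat.mod_lt _ hp.pos)
      · rw [card_image_of_injOn hinj]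
    simp only [hterm]
    rw [← map_prod, ← prod_image (f := fun k => (ε ^ k) v₀) hinj, himg]
  have hdec : ∏ j ∈ range p, ∏ i ∈ range p, ((β * ε ^ j) ^ i) v₀ =
      v₀ ^ p * ∏ i ∈ (range p).erase 0, ∏ m ∈ range p, (ε ^ m) v₀ := by
    rw [prod_comm, ← mul_prod_erase _ _ (mem_range.mpr hp.pos)]
    refine congrArg₂ (· * ·) (by simp) (prod_congr rfl fun i hi => ?_)
    obtain ⟨hi0, hi⟩ := mem_erase.1 hi
    rw [hcol i hi hi0]
    have hfix : ∀ n : ℕ, (β ^ n) (∏ m ∈ range p, (ε ^ m) v₀) = ∏ m ∈ range p, (ε ^ m) v₀ := by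
      intro n
      induction n with
      | zero => simp
      | succ n ih => rw [pow_succ, MulAut.mul_apply, hE, ih]
    exact hfix i
  rw [hdec, map_mul, map_prod, prod_congr rfl fun i _ => hE v₀, map_pow] at h
  have h3 : (β v₀) ^ p = v₀ ^ p := mul_right_cancel h
  exact mul_inv_eq_one.1 (hM _ (by rw [mul_pow, h3, inv_pow, mul_inv_cancel]))

variable {G : Type*} [Group G] [Finite G]

/-- Two normal elementary abelian subgroups inside `H`. -/
structure Duo (H V W : Subgroup G) (p t k : ℕ) : Prop where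
  hp : p.Prime
  ht : t.Prime
  ne : p ≠ t
  VH : V ≤ H
  WH : W ≤ H
  Vn : V.Normal
  Wn : W.Normal
  Vab : ∀ u ∈ V, ∀ v ∈ V, u * v = v * u
  Wab : ∀ u ∈ W, ∀ v ∈ W, u * v = v * u
  Vexp : ∀ u ∈ V, u ^ p = 1
  Wexp : ∀ u ∈ W, u ^ t = 1
  sylP : ¬ p ∣ H.index
  sylT : ¬ t ∣ H.index
  pk : p ∣ k
  tk : t ∣ k
  rel : ∀ (r : ℕ) (u : G), u ∈ H → r.Prime → (∃ i, orderOf u = r ^ i) → ¬ H ≤ cent u →
    (cent u).relIndex H = k
  Vex : ∃ u ∈ V, ¬ H ≤ cent u
  Wex : ∃ u ∈ W, ¬ H ≤ cent u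
  VW : ∀ u ∈ V, ¬ H ≤ cent u → ∃ w ∈ W, ¬ H ≤ cent w ∧ cent u ⊓ H ≤ cent w
  WV : ∀ u ∈ W, ¬ H ≤ cent u → ∃ w ∈ V, ¬ H ≤ cent w ∧ cent u ⊓ H ≤ cent w

namespace Duo

variable {H V W : Subgroup G} {p t k : ℕ}

theorem symm (D : Duo H V W p t k) : Duo H W V t p k where
  hp := D.ht
  ht := D.hp
  ne := D.ne.symm
  VH := D.WH
  WH := D.VH
  Vn := D.Wn
  Wn := D.Vn
  Vab := D.Wab
  Wab := D.Vab
  Vexp := D.Wexp
  Wexp := D.Vexp
  sylP := D.sylT
  sylT := D.sylP
  pk := D.tk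
  tk := D.pk
  rel := D.rel
  Vex := D.Wex
  Wex := D.Vex
  VW := D.WV
  WV := D.VW

theorem prime_pow_mem (D : Duo H V W p t k) {u : G} (hu : u ∈ V) : ∃ i, orderOf u = p ^ i := by
  obtain ⟨i, -, hi⟩ := (Nat.dvd_prime_pow D.hp).1
    (show orderOf u ∣ p ^ 1 by rw [pow_one]; exact orderOf_dvd_of_pow_eq_one (D.Vexp u hu))
  exact ⟨i, hi⟩

theorem sq_not_dvd (D : Duo H V W p t k) : ¬ p ^ 2 ∣ k := by
  intro hk
  haveI : Fact p.Prime := ⟨D.hp⟩
  haveI := D.Vn
  haveI := D.Wn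
  obtain ⟨P, hPH⟩ := exists_sylow_le_of_not_dvd H D.sylP
  have hVp : IsPGroup p ↥V := fun x => ⟨1, Subtype.ext (by rw [pow_one]; exact D.Vexp x x.2)⟩
  have hVP : V ≤ (P : Subgroup G) := by
    have h1 : IsPGroup p ↥(V ⊔ (P : Subgroup G) : Subgroup G) :=
      IsPGroup.to_sup_of_normal_left hVp P.2
    exact le_sup_left.trans (P.3 h1 le_sup_right).le
  -- an element of `V` central modulo the centre of `H`
  obtain ⟨u, huV, huH, hcen⟩ : ∃ u ∈ V, ¬ H ≤ cent u ∧
      ∀ g ∈ (P : Subgroup G), H ≤ cent (g * u * g⁻¹ * u⁻¹) := by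
    set Y : Subgroup G := V ⊓ Subgroup.centralizer (H : Set G)
    have hYmem : ∀ {v : G}, v ∈ V → (v ∈ Y ↔ H ≤ cent v) := fun {v} hv =>
      ⟨fun h g hg => mem_cent.2 (mem_centralizer_iff.1 h.2 g hg),
        fun h => ⟨hv, mem_centralizer_iff.2 fun g hg => mem_cent.1 (h hg)⟩⟩
    haveI : (Y.subgroupOf (P : Subgroup G)).Normal := ⟨fun n hn g => by
      rw [mem_subgroupOf] at hn ⊢
      refine ⟨Subgroup.Normal.conj_mem inferInstance _ hn.1 _, mem_centralizer_iff.2 fun h hh => ?_⟩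
      have h1 := mem_centralizer_iff.1 hn.2 ((g : G)⁻¹ * h * g)
        (mul_mem (mul_mem (inv_mem (hPH g.2)) hh) (hPH g.2))
      show h * ((g : G) * n * (g : G)⁻¹) = (g : G) * n * (g : G)⁻¹ * h
      calc h * ((g : G) * n * (g : G)⁻¹) = g * ((g : G)⁻¹ * h * g * n) * (g : G)⁻¹ := by group
        _ = g * (n * ((g : G)⁻¹ * h * g)) * (g : G)⁻¹ := by rw [h1]
        _ = _ := by group⟩
    set π := QuotientGroup.mk' (Y.subgroupOf (P : Subgroup G))
    haveI : ((V.subgroupOf (P : Subgroup G)).map π).Normal :=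
      Subgroup.Normal.map inferInstance π (QuotientGroup.mk'_surjective _)
    have hne : (V.subgroupOf (P : Subgroup G)).map π ≠ ⊥ := by
      obtain ⟨v, hv, hvH⟩ := D.Vex
      intro e
      have h1 : π ⟨v, hVP hv⟩ ∈ (⊥ : Subgroup _) := e ▸ mem_map_of_mem π (by
        rw [mem_subgroupOf]; exact hv)
      rw [Subgroup.mem_bot, QuotientGroup.mk'_apply, QuotientGroup.eq_one_iff, mem_subgroupOf] at h1
      exact hvH ((hYmem hv).1 h1)
    have h1 := PGroup.inf_center_ne_bot (P.2.to_quotient _) _ hne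
    obtain ⟨⟨z, ⟨⟨u, hu⟩, hu', rfl⟩, hzc⟩, hz1⟩ := (Subgroup.ne_bot_iff_exists_ne_one).1 h1
    rw [SetLike.mem_coe, mem_subgroupOf] at hu'
    refine ⟨u, hu', fun h => hz1 (Subtype.ext ((QuotientGroup.eq_one_iff _).2 ?_)), fun g hg => ?_⟩
    · rw [mem_subgroupOf]; exact (hYmem hu').2 h
    · have h2 := Subgroup.mem_center_iff.1 hzc (π ⟨g, hg⟩)
      have h3 : π (⟨g, hg⟩ * ⟨u, hu⟩ * (⟨g, hg⟩ : ↥(P : Subgroup G))⁻¹ * (⟨u, hu⟩ : ↥(P : Subgroup G))⁻¹) = 1 := by
        rw [map_mul, map_mul, map_mul, map_inv, map_inv, h2]; group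
      rw [QuotientGroup.mk'_apply, QuotientGroup.eq_one_iff, mem_subgroupOf] at h3
      exact (hYmem (mul_mem (Subgroup.Normal.conj_mem inferInstance u hu' g) (inv_mem hu'))).1 h3
  have hd : ∀ g : ↥(P : Subgroup G), ∀ h ∈ H,
      h * ((g : G) * u * (g : G)⁻¹ * u⁻¹) = ((g : G) * u * (g : G)⁻¹ * u⁻¹) * h :=
    fun g h hh => mem_cent.1 (hcen g g.2 hh)
  let φ : ↥(P : Subgroup G) →* ↥V := MonoidHom.mk'
    (fun g => ⟨(g : G) * u * (g : G)⁻¹ * u⁻¹,
      mul_mem (Subgroup.Normal.conj_mem inferInstance u huV g) (inv_mem huV)⟩) fun g h => Subtype.ext <| by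
      show (g : G) * h * u * ((g : G) * h)⁻¹ * u⁻¹ = _ * _
      set dh := (h : G) * u * (h : G)⁻¹ * u⁻¹ with hdh
      have h1 : (g : G) * dh * (g : G)⁻¹ = dh := by
        rw [hdh, hd h g (hPH g.2)]; group
      have h2 : dh ∈ V := mul_mem (Subgroup.Normal.conj_mem inferInstance u huV h) (inv_mem huV)
      calc (g : G) * h * u * ((g : G) * h)⁻¹ * u⁻¹
          = ((g : G) * dh * (g : G)⁻¹) * ((g : G) * u * (g : G)⁻¹ * u⁻¹) := by rw [hdh]; group
        _ = _ := by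
          rw [h1]
          exact D.Vab _ h2 _ (mul_mem (Subgroup.Normal.conj_mem inferInstance u huV g) (inv_mem huV))
  set Q : Subgroup G := (P : Subgroup G) ⊓ cent u with hQ
  set C : Subgroup G := cent u ⊓ H with hC
  have hker : φ.ker = Q.subgroupOf (P : Subgroup G) := by
    ext g
    rw [MonoidHom.mem_ker, mem_subgroupOf, hQ, Subgroup.mem_inf]
    refine ⟨fun h => ⟨g.2, mem_cent.2 ?_⟩, fun h => Subtype.ext ?_⟩
    · have h' := congrArg Subtype.val h
      change (g : G) * u * (g : G)⁻¹ * u⁻¹ = 1 at h'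
      rw [mul_inv_eq_one, mul_inv_eq_iff_eq_mul] at h'
      exact h'
    · show (g : G) * u * (g : G)⁻¹ * u⁻¹ = 1
      rw [mem_cent.1 h.2]; group
  have hnorm : (P : Subgroup G) ≤ normalizer (C : Set G) := by
    have key : ∀ g ∈ (P : Subgroup G), ∀ x ∈ C, g * x * g⁻¹ ∈ C := by
      intro g hg x hx
      refine ⟨mem_cent.2 ?_, H.mul_mem (H.mul_mem (hPH hg) hx.2) (H.inv_mem (hPH hg))⟩
      have h2 := hd ⟨g⁻¹, Subgroup.inv_mem _ hg⟩ x hx.2
      set d := g⁻¹ * u * (g⁻¹)⁻¹ * u⁻¹ with hdd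
      have hxu : x * u = u * x := mem_cent.1 hx.1
      calc g * x * g⁻¹ * u = g * ((x * d) * u) * g⁻¹ := by rw [hdd]; group
        _ = g * (d * (x * u)) * g⁻¹ := by rw [h2, mul_assoc d x u]
        _ = g * ((d * u) * x) * g⁻¹ := by rw [hxu, mul_assoc d u x]
        _ = u * (g * x * g⁻¹) := by rw [hdd]; group
    intro g hg
    refine mem_normalizer_iff.2 fun x => ⟨key g hg x, fun hx => ?_⟩
    have h := key g⁻¹ (Subgroup.inv_mem _ hg) _ hx
    rwa [show g⁻¹ * (g * x * g⁻¹) * g⁻¹⁻¹ = x by group] at h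
  have hQC : Q ≤ C := le_inf inf_le_right (inf_le_left.trans hPH)
  have hQrel : ¬ p ∣ Q.relIndex C := by
    intro hdvd
    haveI : (C.subgroupOf ((P : Subgroup G) ⊔ C)).Normal :=
      normal_subgroupOf_of_le_normalizer (sup_le hnorm le_normalizer)
    set M := (P : Subgroup G) ⊔ C
    have h1 := relIndex_mul_relIndex Q C M hQC le_sup_right
    have h2 := relIndex_mul_relIndex Q (P : Subgroup G) M inf_le_left le_sup_left
    have h3 : C.relIndex M = Q.relIndex (P : Subgroup G) := by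
      have e : Q = C ⊓ (P : Subgroup G) := by
        ext x
        exact ⟨fun hx => ⟨hQC hx, hx.1⟩, fun hx => ⟨hx.2, hx.1.1⟩⟩
      have h4 : ((C.subgroupOf M)).relIndex ((P : Subgroup G).subgroupOf M) = (C.subgroupOf M).index := by
        rw [← Subgroup.relIndex_top_right, ← Subgroup.relIndex_sup_right,
          ← subgroupOf_sup le_sup_left le_sup_right, subgroupOf_self]
      rw [relIndex_subgroupOf le_sup_left] at h4
      rw [e, inf_relIndex_right, h4]
      rfl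
    rw [← h1, h3, mul_comm] at h2
    have h5 : (P : Subgroup G).relIndex M = Q.relIndex C :=
      Nat.eq_of_mul_eq_mul_right (Nat.pos_of_ne_zero Subgroup.index_ne_zero_of_finite) h2
    exact P.not_dvd_index ((h5 ▸ hdvd).trans (relIndex_dvd_index_of_le le_sup_left))
  have hrelu : C.relIndex H = k := by
    rw [hC, inf_relIndex_right]
    exact D.rel p u (D.VH huV) D.hp (D.prime_pow_mem huV) huH
  have hkey : ∀ g ∈ (P : Subgroup G), g ∉ Q → ∀ w ∈ W, Q ≤ cent w → g ∈ cent w → H ≤ cent w := by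
    intro g hgP hgQ w hw hQw hgw
    by_contra hwH
    obtain ⟨i, hi⟩ := D.symm.prime_pow_mem hw
    have hrelw : (cent w ⊓ H).relIndex H = k := by
      rw [inf_relIndex_right]
      exact D.rel t w (D.WH hw) D.ht ⟨i, hi⟩ hwH
    set Q' := Q ⊔ zpowers g
    have hQ'P : Q' ≤ (P : Subgroup G) := sup_le inf_le_left (zpowers_le.2 hgP)
    have hQ'w : Q' ≤ cent w ⊓ H := sup_le (le_inf hQw (inf_le_left.trans hPH))
      (zpowers_le.2 ⟨hgw, hPH hgP⟩)
    have hpd : p ∣ Q.relIndex Q' := by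
      obtain ⟨j, hj⟩ := (P.2.to_le hQ'P).index (Q.subgroupOf Q')
      rcases j with _ | j
      · exfalso
        exact hgQ (relIndex_eq_one.1 (show Q.relIndex Q' = 1 by simpa [relIndex] using hj)
          (mem_sup_right (mem_zpowers g)))
      · show p ∣ (Q.subgroupOf Q').index
        rw [hj]; exact dvd_pow_self p j.succ_ne_zero
    have h1 := relIndex_mul_relIndex Q C H hQC inf_le_right
    have h2 := relIndex_mul_relIndex Q Q' H le_sup_left (hQ'w.trans inf_le_right)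
    have h3 := relIndex_mul_relIndex Q' (cent w ⊓ H) H hQ'w inf_le_right
    rw [hrelu] at h1
    rw [hrelw] at h3
    obtain ⟨m, hm⟩ := hpd
    rw [← h3, hm, ← h1] at h2
    refine hQrel ⟨m * Q'.relIndex (cent w ⊓ H), ?_⟩
    have hk0 : 0 < k := hrelu ▸ Nat.pos_of_ne_zero Subgroup.index_ne_zero_of_finite
    refine Nat.eq_of_mul_eq_mul_right hk0 ?_
    rw [← h2]
    ring
  -- the image of `φ` has order at least `p ^ 2`
  have hrange : p ^ 2 ∣ Nat.card ↥φ.range := by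
    have h0 : Nat.card ↥φ.range = Q.relIndex (P : Subgroup G) := by
      rw [← Subgroup.index_ker, hker]; rfl
    rw [h0]
    have h1 := relIndex_mul_relIndex Q C H hQC inf_le_right
    have h2 := relIndex_mul_relIndex Q (P : Subgroup G) H inf_le_left hPH
    rw [hrelu] at h1
    have h3 : p ^ 2 ∣ Q.relIndex (P : Subgroup G) * (P : Subgroup G).relIndex H := by
      rw [h2, ← h1]; exact hk.mul_left _
    have h4 : ¬ p ∣ (P : Subgroup G).relIndex H :=
      fun hd' => P.not_dvd_index (hd'.trans (relIndex_dvd_index_of_le hPH))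
    exact (((D.hp.coprime_iff_not_dvd).2 h4).pow_left 2).dvd_of_dvd_mul_right h3
  obtain ⟨e, he⟩ : ∃ e, φ e ≠ 1 := by
    by_contra hno
    push Not at hno
    rw [MonoidHom.range_eq_bot_iff.2 (MonoidHom.ext hno), Subgroup.card_bot] at hrange
    have := Nat.le_of_dvd one_pos hrange
    have := Nat.one_lt_pow (two_ne_zero) D.hp.one_lt
    omega
  obtain ⟨f, hf⟩ : ∃ f, φ f ∉ zpowers (φ e) := by
    by_contra hno
    push Not at hno
    have h1 : φ.range ≤ zpowers (φ e) := by rintro _ ⟨f, rfl⟩; exact hno f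
    have h2 := hrange.trans (card_dvd_of_le h1)
    rw [Nat.card_zpowers] at h2
    have h3 : orderOf (φ e) ∣ p := orderOf_dvd_of_pow_eq_one (Subtype.ext (D.Vexp _ (φ e).2))
    have h4 := Nat.le_of_dvd D.hp.pos (h2.trans h3)
    have h5 := D.hp.two_le
    nlinarith
  have hnot : ∀ g : ↥(P : Subgroup G), φ g ≠ 1 → (g : G) ∉ Q := fun g hg hgQ =>
    hg (by rw [← MonoidHom.mem_ker, hker, mem_subgroupOf]; exact hgQ)
  have hinQ : ∀ g : ↥(P : Subgroup G), φ g = 1 → (g : G) ∈ Q := fun g hg => by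
    rwa [← MonoidHom.mem_ker, hker, mem_subgroupOf] at hg
  obtain ⟨w, hw, hwH, hCw⟩ := D.VW u huV huH
  -- the abelian group on which `e` and `f` act
  set W₁ : Subgroup G := W ⊓ Subgroup.centralizer (Q : Set G)
  have hQn : ∀ g ∈ (P : Subgroup G), ∀ x ∈ Q, g * x * g⁻¹ ∈ Q := fun g hg x hx =>
    ⟨Subgroup.mul_mem _ (Subgroup.mul_mem _ hg hx.1) (Subgroup.inv_mem _ hg),
      ((mem_normalizer_iff.1 (hnorm hg) x).1 (hQC hx)).1⟩
  have hW₁n : (P : Subgroup G) ≤ normalizer (W₁ : Set G) := by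
    have key : ∀ g ∈ (P : Subgroup G), ∀ x ∈ W₁, g * x * g⁻¹ ∈ W₁ := by
      intro g hg x hx
      refine ⟨Subgroup.Normal.conj_mem inferInstance x hx.1 g, mem_centralizer_iff.2 fun q hq => ?_⟩
      have h1 := mem_centralizer_iff.1 hx.2 (g⁻¹ * q * g) (by simpa using hQn g⁻¹ (Subgroup.inv_mem _ hg) q hq)
      calc q * (g * x * g⁻¹) = g * (g⁻¹ * q * g * x) * g⁻¹ := by group
        _ = g * (x * (g⁻¹ * q * g)) * g⁻¹ := by rw [h1]
        _ = _ := by group
    intro g hg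
    refine mem_normalizer_iff.2 fun x => ⟨key g hg x, fun hx => ?_⟩
    have h := key g⁻¹ (Subgroup.inv_mem _ hg) _ hx
    rwa [show g⁻¹ * (g * x * g⁻¹) * g⁻¹⁻¹ = x by group] at h
  letI : CommGroup ↥W₁ :=
    { (inferInstance : Group ↥W₁) with
      mul_comm := fun a b => Subtype.ext (D.Wab a a.2.1 b b.2.1) }
  let ρ : ↥(P : Subgroup G) →* MulAut ↥W₁ := W₁.normalizerMonoidHom.comp (Subgroup.inclusion hW₁n)
  have hρ : ∀ (g : ↥(P : Subgroup G)) (x : ↥W₁), ((ρ g x : ↥W₁) : G) = (g : G) * x * (g : G)⁻¹ :=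
    fun g x => rfl
  have hρQ : ∀ g : ↥(P : Subgroup G), φ g = 1 → ρ g = 1 := fun g hg => by
    ext x
    rw [hρ, MulAut.one_apply, mem_centralizer_iff.1 x.2.2 g (hinQ g hg)]
    group
  have hpow : ∀ g : ↥(P : Subgroup G), (ρ g) ^ p = 1 := fun g => by
    rw [← map_pow]
    exact hρQ _ (by rw [map_pow]; exact Subtype.ext (D.Vexp _ (φ g).2))
  have hcomm : Commute (ρ e) (ρ f) := by
    have h1 : φ (e * f * (f * e)⁻¹) = 1 := by
      rw [map_mul, map_inv, mul_inv_eq_one, map_mul, map_mul]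
      exact Subtype.ext (D.Vab _ (φ e).2 _ (φ f).2)
    have h2 := hρQ _ h1
    rwa [map_mul, map_inv, mul_inv_eq_one, map_mul, map_mul] at h2
  have htf : ∀ x : ↥W₁, x ^ p = 1 → x = 1 := fun x hx => by
    refine orderOf_eq_one_iff.1 (Nat.eq_one_of_dvd_coprimes ((Nat.coprime_primes D.hp D.ht).2 D.ne)
      (orderOf_dvd_of_pow_eq_one hx) (orderOf_dvd_of_pow_eq_one (Subtype.ext (D.Wexp _ x.2.1))))
  have hfix : ∀ g : ↥(P : Subgroup G), φ g ≠ 1 → ∀ x : ↥W₁, ρ g x = x → ρ e x = x := by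
    intro g hg x hx
    have h1 := congrArg Subtype.val hx
    rw [hρ, mul_inv_eq_iff_eq_mul] at h1
    have hH := hkey g g.2 (hnot g hg) x x.2.1
      (fun q hq => mem_cent.2 (mem_centralizer_iff.1 x.2.2 q hq)) (mem_cent.2 h1)
    refine Subtype.ext ?_
    rw [hρ, mem_cent.1 (hH (hPH e.2))]
    group
  have hwmem : w ∈ W₁ := ⟨hw, mem_centralizer_iff.2 fun q hq => mem_cent.1 (hCw (hQC hq))⟩
  have hfinal : ρ e ⟨w, hwmem⟩ = ⟨w, hwmem⟩ := by
    refine fixed_of_pair D.hp htf (ρ e) (ρ f) (hpow e) (hpow f) hcomm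
      (hfix f fun e' => hf (e' ▸ one_mem _)) (fun j x hx => hfix (e * f ^ j) (fun e' => ?_) x
        (by rw [map_mul, map_pow]; exact hx)) _
    rw [map_mul, map_pow] at e'
    have hj : ¬ p ∣ j := by
      rintro ⟨i, rfl⟩
      rw [pow_mul, show φ f ^ p = 1 from Subtype.ext (D.Vexp _ (φ f).2), one_pow, mul_one] at e'
      exact he e'
    have hmem : φ f ^ j ∈ zpowers (φ e) := by
      rw [← inv_eq_of_mul_eq_one_right e']; exact inv_mem (mem_zpowers _)
    refine hf ?_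
    have hord : orderOf (φ f) = p := by
      haveI : Fact p.Prime := ⟨D.hp⟩
      exact orderOf_eq_prime (Subtype.ext (D.Vexp _ (φ f).2)) fun e'' => hf (e'' ▸ one_mem _)
    obtain ⟨i, hi⟩ := exists_pow_eq_self_of_coprime (x := φ f) (n := j)
      (by rw [hord]; exact ((D.hp.coprime_iff_not_dvd).2 hj).symm)
    rw [← hi]
    exact pow_mem hmem i
  have h1 := congrArg Subtype.val hfinal
  rw [hρ, mul_inv_eq_iff_eq_mul] at h1
  exact hwH (hkey e e.2 (hnot e he) w hw (fun q hq => hCw (hQC hq)) (mem_cent.2 h1))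

theorem dvd_pred (D : Duo H V W p t k) : t ∣ p - 1 := by
  haveI : Fact p.Prime := ⟨D.hp⟩
  haveI : Fact t.Prime := ⟨D.ht⟩
  haveI := D.Vn
  obtain ⟨u, huV, huH⟩ := D.Vex
  obtain ⟨T, hTH⟩ := exists_sylow_le_of_not_dvd H D.sylT
  obtain ⟨y, hyT, hyu⟩ : ∃ y ∈ (T : Subgroup G), y ∉ cent u := by
    by_contra hno
    push Not at hno
    have hle : (T : Subgroup G) ≤ cent u ⊓ H := fun y hy => ⟨hno y hy, hTH hy⟩
    have h1 := D.rel p u (D.VH huV) D.hp (D.prime_pow_mem huV) huH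
    have h2 : (cent u ⊓ H).relIndex H ∣ (T : Subgroup G).relIndex H := relIndex_dvd_of_le_left H hle
    rw [inf_relIndex_right, h1] at h2
    exact T.not_dvd_index ((D.tk.trans h2).trans (relIndex_dvd_index_of_le hTH))
  have hyk := pow_of_mem_pGroup T.2 hyT
  have hyH : ¬ H ≤ cent y := fun h => hyu (mem_cent_symm (h (D.VH huV)))
  have hrel := D.rel t y (hTH hyT) D.ht hyk hyH
  have hdvd : (cent y).relIndex V ∣ k := by
    rw [← hrel]
    have h1 := relIndex_dvd_index_of_normal' ((cent y).subgroupOf H) (V.subgroupOf H)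
    rwa [relIndex_subgroupOf D.VH] at h1
  let ψ : ↥V →* ↥V := MonoidHom.mk'
    (fun v => ⟨y * (v : G) * y⁻¹ * (v : G)⁻¹,
      mul_mem (Subgroup.Normal.conj_mem inferInstance (v : G) v.2 y) (inv_mem v.2)⟩) fun v w => Subtype.ext <| by
      show y * ((v : G) * w) * y⁻¹ * ((v : G) * w)⁻¹ = _ * _
      have hcw : y * (w : G) * y⁻¹ * (w : G)⁻¹ ∈ V :=
        mul_mem (Subgroup.Normal.conj_mem inferInstance (w : G) w.2 y) (inv_mem w.2)
      calc y * ((v : G) * w) * y⁻¹ * ((v : G) * w)⁻¹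
          = (y * (v : G) * y⁻¹) * ((y * w * y⁻¹ * (w : G)⁻¹) * (v : G)⁻¹) := by group
        _ = (y * (v : G) * y⁻¹) * ((v : G)⁻¹ * (y * w * y⁻¹ * (w : G)⁻¹)) := by
          rw [D.Vab _ hcw _ (inv_mem v.2)]
        _ = _ := by group
  have hrange : Nat.card ↥ψ.range = p := by
    have hker : ψ.ker = (cent y).subgroupOf V := by
      ext v
      rw [MonoidHom.mem_ker, mem_subgroupOf, mem_cent, ← Subtype.coe_inj]
      show y * (v : G) * y⁻¹ * (v : G)⁻¹ = 1 ↔ _
      rw [mul_inv_eq_one, mul_inv_eq_iff_eq_mul, eq_comm]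
    have h1 : Nat.card ↥ψ.range = (cent y).relIndex V := by
      rw [← Subgroup.index_ker, hker]; rfl
    have hVp : IsPGroup p ↥V := fun x => ⟨1, Subtype.ext (by rw [pow_one]; exact D.Vexp x x.2)⟩
    obtain ⟨i, hi⟩ := hVp.index ((cent y).subgroupOf V)
    rw [h1]
    change (cent y).relIndex V = p ^ i at hi
    rcases i with _ | _ | i
    · exact absurd (mem_cent_symm (relIndex_eq_one.1 (hi.trans (pow_zero p)) huV)) hyu
    · exact hi.trans (pow_one p)
    · exact absurd ((pow_dvd_pow p (by omega : 2 ≤ i + 2)).trans (hi ▸ hdvd)) D.sq_not_dvd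
  set L : Subgroup G := ψ.range.map V.subtype
  have hLcard : Nat.card ↥L = p := by
    rw [← hrange]; exact Subgroup.card_map_of_injective Subtype.val_injective
  have hLmem : ∀ x ∈ L, y * x * y⁻¹ ∈ L := by
    rintro _ ⟨_, ⟨v, rfl⟩, rfl⟩
    refine ⟨ψ ⟨y * v * y⁻¹, Subgroup.Normal.conj_mem inferInstance _ v.2 y⟩, ⟨_, rfl⟩, ?_⟩
    show y * (y * v * y⁻¹) * y⁻¹ * (y * v * y⁻¹)⁻¹ = y * (y * v * y⁻¹ * (v : G)⁻¹) * y⁻¹
    group
  have hyN : y ∈ normalizer (L : Set G) := by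
    have hset : (fun x => y * x * y⁻¹) '' (L : Set G) = L := by
      refine Set.eq_of_subset_of_ncard_le ?_ ?_ (Set.toFinite _)
      · rintro _ ⟨x, hx, rfl⟩; exact hLmem x hx
      · exact le_of_eq (Set.ncard_image_of_injective _
          fun a b e => mul_left_cancel (mul_right_cancel e)).symm
    refine mem_normalizer_iff.2 fun x => ⟨hLmem x, fun hx => ?_⟩
    obtain ⟨x', hx', e⟩ := hset.symm.subset hx
    exact mul_left_cancel (mul_right_cancel e) ▸ hx'
  haveI : IsCyclic ↥L := isCyclic_of_prime_card hLcard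
  set α := L.normalizerMonoidHom ⟨y, hyN⟩
  have hα : α ≠ 1 := fun hα => by
    have hfix : ∀ x ∈ L, y * x * y⁻¹ = x := fun x hx => by
      have h1 : ((α ⟨x, hx⟩ : ↥L) : G) = ((1 : MulAut ↥L) ⟨x, hx⟩ : ↥L) := by rw [hα]
      exact h1
    obtain ⟨l, hl⟩ : ∃ l, l = y * u * y⁻¹ * u⁻¹ := ⟨_, rfl⟩
    have hlL : l ∈ L := ⟨ψ ⟨u, huV⟩, ⟨_, rfl⟩, hl.symm⟩
    have hn : ∀ n : ℕ, y ^ n * u * (y ^ n)⁻¹ = l ^ n * u := by
      intro n
      induction n with
      | zero => simp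
      | succ n ih =>
        calc y ^ (n + 1) * u * (y ^ (n + 1))⁻¹ = y * (y ^ n * u * (y ^ n)⁻¹) * y⁻¹ := by
              rw [pow_succ']; group
          _ = (y * l ^ n * y⁻¹) * (y * u * y⁻¹) := by rw [ih]; group
          _ = l ^ n * (l * u) := by rw [hfix _ (pow_mem hlL n), show y * u * y⁻¹ = l * u by rw [hl]; group]
          _ = l ^ (n + 1) * u := by rw [pow_succ, mul_assoc]
    obtain ⟨j, hj⟩ := hyk
    have h1 := hn (orderOf y)
    rw [pow_orderOf_eq_one, inv_one, mul_one, one_mul, right_eq_mul, hj] at h1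
    have h2 : l ^ p = 1 := D.Vexp l (hl ▸ mul_mem (Subgroup.Normal.conj_mem inferInstance u huV y) (inv_mem huV))
    have h3 : l = 1 := orderOf_eq_one_iff.1 (Nat.eq_one_of_dvd_coprimes
      (((Nat.coprime_primes D.hp D.ht).2 D.ne).pow_right j)
      (orderOf_dvd_of_pow_eq_one h2) (orderOf_dvd_of_pow_eq_one h1))
    rw [hl, mul_inv_eq_one, mul_inv_eq_iff_eq_mul] at h3
    exact hyu (mem_cent.2 h3)
  obtain ⟨j, hj⟩ := hyk
  have hα' : α ^ t ^ j = 1 := by
    rw [← map_pow, ← map_one L.normalizerMonoidHom]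
    congr 1
    exact Subtype.ext (by rw [← hj]; exact pow_orderOf_eq_one y)
  obtain ⟨i, -, hi⟩ := (Nat.dvd_prime_pow D.ht).1 (orderOf_dvd_of_pow_eq_one hα')
  have h := orderOf_dvd_natCard α
  rw [IsCyclic.card_mulAut, hLcard, Nat.totient_prime D.hp, hi] at h
  rcases i with _ | i
  · exact absurd (orderOf_eq_one_iff.1 (hi.trans (pow_zero t))) hα
  · exact (dvd_pow_self t i.succ_ne_zero).trans h

/-- There is no such configuration. -/
theorem false (D : Duo H V W p t k) : False := by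
  have h1 := Nat.le_of_dvd (by have := D.hp.two_le; omega) D.dvd_pred
  have h2 := Nat.le_of_dvd (by have := D.ht.two_le; omega) D.symm.dvd_pred
  have := D.hp.two_le
  omega

end Duo

end Cfsg.Agent.Centre3
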