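import Cfsg.Agent.Centre3.ChainRegular
import Cfsg.Agent.Centre3.Duo
import Cfsg.Agent.S4160
import Cfsg.Agent.S0126

/-!
Three class sizes, one properly dividing another: the group is solvable.
-/

set_option autoImplicit false

namespace Cfsg.Agent.Centre3

open Subgroup CsPSL Rank3
open scoped Classical commutatorElement

variable {G : Type*} [Group G] [Finite G]

/-- A nontrivial solvable normal subgroup contains a nontrivial abelian normal subgroup. -/
theorem exists_abelian_normal (N : Subgroup G) [N.Normal] [Group.IsSolvable ↥N] (hN : N ≠ ⊥) :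
    ∃ M : Subgroup G, M.Normal ∧ M ≠ ⊥ ∧ ∀ u ∈ M, ∀ v ∈ M, u * v = v * u := by
  obtain ⟨n, hn⟩ := (Group.isSolvable_def ↥N).1 inferInstance
  induction n with
  | zero =>
    exfalso
    rw [derivedSeries_zero] at hn
    refine hN ((Subgroup.eq_bot_iff_forall _).2 fun x hx => ?_)
    have h1 : (⟨x, hx⟩ : ↥N) = 1 := (Subgroup.mem_bot).1 (hn ▸ Subgroup.mem_top (⟨x, hx⟩ : ↥N))
    exact congrArg Subtype.val h1
  | succ n ih =>
    by_cases h : derivedSeries ↥N n = ⊥
    · exact ih h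
    refine ⟨(derivedSeries ↥N n).map N.subtype, inferInstance, fun e => h ?_, ?_⟩
    · exact (Subgroup.map_eq_bot_iff_of_injective _ Subtype.val_injective).1 e
    rintro _ ⟨u, hu, rfl⟩ _ ⟨v, hv, rfl⟩
    rw [derivedSeries_succ] at hn
    have h1 : ⁅u, v⁆ = 1 := (Subgroup.mem_bot).1 (hn ▸ commutator_mem_commutator hu hv)
    exact congrArg Subtype.val (commutatorElement_eq_one_iff_mul_comm.1 h1)

/-- A normal complement for a prime. -/
def Comp (G : Type*) [Group G] (s : ℕ) : Prop :=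
  ∃ N : Subgroup G, N.Normal ∧ N.index = s ^ (Nat.card G).factorization s

theorem comp_of_hasNormalPComplement {s : ℕ} [Fact s.Prime]
    (h : Cfsg.HasNormalPComplement s G) : Comp G s := by
  obtain ⟨P, N, hN, hc⟩ := h
  exact ⟨N, hN, by rw [hc.symm.index_eq_card, P.card_eq_multiplicity]⟩

/-- The intersection of normal complements. -/
theorem exists_inf_comp (S : Finset ℕ) (hp : ∀ s ∈ S, s.Prime) (hc : ∀ s ∈ S, Comp G s) :
    ∃ L : Subgroup G, ∃ _ : L.Normal, Group.IsSolvable (G ⧸ L) ∧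
      (∀ g : G, (∀ s ∈ S, ¬ s ∣ orderOf g) → g ∈ L) ∧ ∀ s ∈ S, ¬ s ∣ Nat.card ↥L := by
  induction S using Finset.induction with
  | empty =>
    refine ⟨⊤, inferInstance, ?_, fun g _ => mem_top g, by simp⟩
    haveI : Subsingleton (G ⧸ (⊤ : Subgroup G)) := QuotientGroup.subsingleton_quotient_top
    infer_instance
  | insert s S hs ih =>
    obtain ⟨L, hL, hLs, hmem, hdvd⟩ := ih (fun t ht => hp t (Finset.mem_insert_of_mem ht))
      fun t ht => hc t (Finset.mem_insert_of_mem ht)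
    obtain ⟨N, hN, hNi⟩ := hc s (Finset.mem_insert_self s S)
    have hsp := hp s (Finset.mem_insert_self s S)
    haveI : Fact s.Prime := ⟨hsp⟩
    haveI : Group.IsNilpotent (G ⧸ N) :=
      (IsPGroup.of_card (p := s) (n := (Nat.card G).factorization s) hNi).isNilpotent
    refine ⟨L ⊓ N, inferInstance, ?_, fun g hg => ⟨hmem g fun t ht => hg t (Finset.mem_insert_of_mem ht), ?_⟩, ?_⟩
    · let f : G →* (G ⧸ L) × (G ⧸ N) := (QuotientGroup.mk' L).prod (QuotientGroup.mk' N)
      have hk : f.ker = L ⊓ N := by rw [MonoidHom.ker_prod, QuotientGroup.ker_mk', QuotientGroup.ker_mk']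
      have hinj : Function.Injective (QuotientGroup.lift (L ⊓ N) f hk.ge) := by
        rw [← MonoidHom.ker_eq_bot_iff, QuotientGroup.ker_lift, hk, QuotientGroup.map_mk'_self]
      exact Group.isSolvable_of_isSolvable_injective hinj
    · refine Element.mem_of_coprime_index ?_
      rw [hNi]
      exact ((hsp.coprime_iff_not_dvd.2 (hg s (Finset.mem_insert_self s S))).pow_left _).symm
    · intro t ht hd
      rcases Finset.mem_insert.1 ht with rfl | ht
      · have h1 : t ∣ Nat.card ↥N := hd.trans (card_dvd_of_le inf_le_right)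
        have h2 := N.card_mul_index
        rw [hNi] at h2
        have h3 : t ^ ((Nat.card G).factorization t + 1) ∣ Nat.card G := by
          have h4 := mul_dvd_mul_left (t ^ (Nat.card G).factorization t) h1
          rw [mul_comm _ (Nat.card ↥N), h2, ← pow_succ] at h4
          exact h4
        exact Nat.pow_succ_factorization_not_dvd Nat.card_pos.ne' hsp h3
      · exact hdvd t ht (hd.trans (card_dvd_of_le inf_le_left))

namespace Chain

variable {a b c : ℕ} (C : Chain G a b c)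
include C

theorem nilpotent_c {y : G} (hy : y ≠ 1) (hyc : idx y = c) :
    Group.IsNilpotent ↥(cent y) ∧
      ((∀ u ∈ cent y, ∀ v ∈ cent y, u * v = v * u) ∨ ∃ r i, r.Prime ∧ a = r ^ i) := by
  obtain ⟨r, u, hr, hu, huy, huk⟩ := exists_part hy
  obtain ⟨huc, hue⟩ := C.idx_eq_c_of_part hyc hu huy
  rcases (C.isolated_c hu huc).comm_or_pgroup hr huk with hab | hpg
  · rw [hue] at hab
    letI : CommGroup ↥(cent y) :=
      { (inferInstance : Group ↥(cent y)) with mul_comm := fun p q => Subtype.ext (hab p p.2 q q.2) }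
    exact ⟨CommGroup.isNilpotent, Or.inl hab⟩
  haveI : Fact r.Prime := ⟨hr⟩
  rw [hue] at hpg
  have hgrp : IsPGroup r ↥(cent y) := by
    rintro ⟨w, hw⟩
    obtain ⟨j, hj⟩ := hpg w hw
    exact ⟨j, Subtype.ext ((mem_center_iff_eq_one C.center_bot).1 hj)⟩
  obtain ⟨i, hi⟩ := hgrp.exists_card_eq
  exact ⟨hgrp.isNilpotent, Or.inr ⟨r, i, hr, (C.ord_eq.2.1 hyc).symm.trans hi⟩⟩

/-- A Sylow-central element inside the centraliser of an element of size `a`. -/
theorem central_data {x : G} (hx : x ≠ 1) (hxa : idx x = a) {t : ℕ} [Fact t.Prime] (htb : t ∣ b)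
    (hta : ¬ t ∣ a) (hco : ∀ w : G, (∃ i, orderOf w = t ^ i) → Nat.Coprime (orderOf w) (orderOf x))
    (T : Sylow t G) (hT : (T : Subgroup G) ≤ cent x) {z : G} (hz : z ≠ 1)
    (hzk : ∃ i, orderOf z = t ^ i) (hzx : z ∈ cent x) (hTz : (T : Subgroup G) ≤ cent z) :
    idx z = a ∧ cent z = cent x := by
  obtain ⟨-, hfact⟩ := C.prime_facts_c Fact.out htb hta
  have hza := hfact z hz fun h => T.not_dvd_index (h.trans (Subgroup.index_dvd_of_le hTz))
  obtain ⟨hne, he, -, -⟩ := mul_data C.center_bot hz (mem_cent.1 hzx) (hco z hzk)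
  have hi := hfact _ hne fun h => T.not_dvd_index (h.trans
    (Subgroup.index_dvd_of_le (he ▸ le_inf hTz hT)))
  exact ⟨hza, (eq_of_le_of_index_eq (he ▸ inf_le_left) (hi.trans hza.symm)).symm.trans
    (eq_of_le_of_index_eq (he ▸ inf_le_right) (hi.trans hxa.symm))⟩

theorem c_or_a {r : ℕ} (hr : r.Prime) (hd : r ∣ Nat.card G) : r ∣ a ∨ r ∣ c :=
  (Nat.Prime.dvd_mul hr).1 (C.card_eq ▸ hd)

theorem false_of_sub_solvable (L : Subgroup G) [L.Normal] (h : Group.IsSolvable (G ⧸ L))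
    (hL : Group.IsSolvable ↥L) : False :=
  C.not_solvable ((Group.isSolvable_iff_subgroup_quotient L).2 ⟨hL, h⟩)

theorem comp_of_not_dvd {s : ℕ} (hs : s.Prime) (hsc : s ∣ c) (hsb : ¬ s ∣ b) : Comp G s := by
  haveI : Fact s.Prime := ⟨hs⟩
  by_contra hno
  obtain ⟨ha, -, hc⟩ := C.pos
  have hall : ∀ r ∈ a.primeFactors, Comp G r := by
    intro r hr
    obtain ⟨hrp, hra, -⟩ := Nat.mem_primeFactors.1 hr
    haveI : Fact r.Prime := ⟨hrp⟩
    have hrc : ¬ r ∣ c := fun h => hrp.one_lt.ne' (Nat.eq_one_of_dvd_coprimes C.coprime_ac hra h)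
    have hne : s ≠ r := fun e => hrc (e ▸ hsc)
    obtain ⟨x, -, hxa⟩ := C.exA
    obtain ⟨y, -, hyc⟩ := C.exC
    rcases S4160.result (G := G) s r hs hrp hne ⟨y, by rw [show (cent y).index = c from hyc]; exact hsc⟩
      ⟨x, by rw [show (cent x).index = a from hxa]; exact hra⟩ (fun g hg => by
        have h1 : s ∣ idx g := (dvd_mul_right s r).trans hg
        have h2 : r ∣ idx g := (dvd_mul_left r s).trans hg
        by_cases hg1 : g = 1
        · rw [hg1, idx_one] at h1; exact hs.one_lt.ne' (Nat.dvd_one.1 h1)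
        rcases C.cases g hg1 with e | e | e <;> rw [e] at h1 h2
        · exact hsb (h1.trans C.dvd)
        · exact hsb h1
        · exact hrc h2) with h | h
    · exact absurd (comp_of_hasNormalPComplement h) hno
    · exact comp_of_hasNormalPComplement h
  obtain ⟨L, hLn, hLq, hmem, hdvd⟩ := exists_inf_comp a.primeFactors
    (fun r hr => (Nat.mem_primeFactors.1 hr).1) hall
  obtain ⟨x, hx, hxa⟩ := C.exA
  have hle : cent x ≤ L := fun g hg => hmem g fun r hr hd => by
    obtain ⟨hrp, hra, -⟩ := Nat.mem_primeFactors.1 hr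
    have h1 : r ∣ c := by
      rw [← C.ord_eq.1 hxa]
      exact hd.trans ((Subgroup.orderOf_mk g hg).symm.dvd.trans (orderOf_dvd_natCard _))
    exact hrp.one_lt.ne' (Nat.eq_one_of_dvd_coprimes C.coprime_ac hra h1)
  have hL : L = cent x := by
    refine (eq_of_le_of_card_ge hle (Nat.le_of_dvd Nat.card_pos ?_)).symm
    rw [show Nat.card ↥(cent x) = c from C.ord_eq.1 hxa]
    have h1 : Nat.Coprime (Nat.card ↥L) a := Nat.coprime_of_dvd fun r hr h2 h3 =>
      hdvd r (Nat.mem_primeFactors.2 ⟨hr, h3, by omega⟩) h2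
    exact h1.dvd_of_dvd_mul_left (C.card_eq ▸ Subgroup.card_subgroup_dvd_card L)
  exact C.false_of_sub_solvable L hLq (hL ▸ C.cent_a_solvable hx hxa)

/-- Only one prime may divide `b / a`. -/
theorem false_of_one_prime {p : ℕ} (hp : p.Prime) (hpb : p ∣ b) (hpa : ¬ p ∣ a)
    (hone : ∀ t : ℕ, t.Prime → t ∣ b → ¬ t ∣ a → t = p) : False := by
  haveI : Fact p.Prime := ⟨hp⟩
  obtain ⟨ha, -, hc⟩ := C.pos
  set S := c.primeFactors.erase p with hS
  have hSm : ∀ s ∈ S, s.Prime ∧ s ∣ c ∧ s ≠ p := fun s hs => by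
    obtain ⟨h1, h2⟩ := Finset.mem_erase.1 hs
    exact ⟨(Nat.mem_primeFactors.1 h2).1, (Nat.mem_primeFactors.1 h2).2.1, h1⟩
  obtain ⟨L, hLn, hLq, hmem, hdvd⟩ := exists_inf_comp S (fun s hs => (hSm s hs).1) fun s hs => by
    obtain ⟨hsp, hsc, hne⟩ := hSm s hs
    exact C.comp_of_not_dvd hsp hsc fun hb => hne (hone s hsp hb fun h =>
      hsp.one_lt.ne' (Nat.eq_one_of_dvd_coprimes C.coprime_ac h hsc))
  obtain ⟨y, hy, hyc⟩ := C.exC
  obtain ⟨P⟩ : Nonempty (Sylow p G) := inferInstance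
  have hA : cent y ≤ L := fun g hg => hmem g fun s hs hd => by
    obtain ⟨hsp, hsc, -⟩ := hSm s hs
    have h1 : s ∣ a := by
      rw [← C.ord_eq.2.1 hyc]
      exact hd.trans ((Subgroup.orderOf_mk g hg).symm.dvd.trans (orderOf_dvd_natCard _))
    exact hsp.one_lt.ne' (Nat.eq_one_of_dvd_coprimes C.coprime_ac h1 hsc)
  have hP : (P : Subgroup G) ≤ L := fun g hg => hmem g fun s hs hd => by
    obtain ⟨hsp, -, hne⟩ := hSm s hs
    obtain ⟨i, hi⟩ := pow_of_mem_pGroup P.2 hg
    exact hne ((Nat.prime_dvd_prime_iff_eq hsp hp).1 (hsp.dvd_of_dvd_pow (hi ▸ hd)))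
  have hco : (Nat.card ↥((cent y).subgroupOf L)).Coprime (Nat.card ↥((P : Subgroup G).subgroupOf L)) := by
    rw [Nat.card_congr (subgroupOfEquivOfLe hA).toEquiv, Nat.card_congr (subgroupOfEquivOfLe hP).toEquiv,
      P.card_eq_multiplicity, show Nat.card ↥(cent y) = a from C.ord_eq.2.1 hyc]
    exact ((hp.coprime_iff_not_dvd).2 hpa).symm.pow_right _
  have hcard : Nat.card ↥L = Nat.card ↥((cent y).subgroupOf L) * Nat.card ↥((P : Subgroup G).subgroupOf L) := by
    rw [Nat.card_congr (subgroupOfEquivOfLe hA).toEquiv, Nat.card_congr (subgroupOfEquivOfLe hP).toEquiv,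
      show Nat.card ↥(cent y) = a from C.ord_eq.2.1 hyc]
    refine Nat.dvd_antisymm ?_ ?_
    · rw [Nat.dvd_iff_prime_pow_dvd_dvd]
      intro s i hs hsi
      rcases Nat.eq_zero_or_pos i with rfl | hi0
      · rw [pow_zero]; exact one_dvd _
      have hsd : s ^ i ∣ a * c := C.card_eq ▸ hsi.trans (Subgroup.card_subgroup_dvd_card L)
      by_cases hsp : s = p
      · subst hsp
        refine dvd_mul_of_dvd_right ?_ _
        rw [P.card_eq_multiplicity]
        exact Nat.pow_dvd_pow _ ((hp.pow_dvd_iff_le_factorization Nat.card_pos.ne').1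
          (C.card_eq ▸ hsd))
      · refine dvd_mul_of_dvd_left ?_ _
        have hsc : ¬ s ∣ c := fun h => hdvd s (Finset.mem_erase.2 ⟨hsp, Nat.mem_primeFactors.2
          ⟨hs, h, by omega⟩⟩) ((dvd_pow_self s hi0.ne').trans hsi)
        exact (((hs.coprime_iff_not_dvd).2 hsc).pow_left i).dvd_of_dvd_mul_right hsd
    · exact (((hp.coprime_iff_not_dvd).2 hpa).symm.pow_right _ |> fun h => by
        rw [← P.card_eq_multiplicity] at h
        exact h.mul_dvd_of_dvd_of_dvd (C.ord_eq.2.1 hyc ▸ card_dvd_of_le hA) (card_dvd_of_le hP))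
  have hcompl := isComplement'_of_coprime hcard.symm hco
  refine C.false_of_sub_solvable L hLq (SolvStruct.isSolvable_of_nilpotent_product
    (H := (cent y).subgroupOf L) (K := (P : Subgroup G).subgroupOf L) ?_ ?_ fun g => ?_)
  · haveI := (C.nilpotent_c hy hyc).1
    exact Group.nilpotent_of_mulEquiv (subgroupOfEquivOfLe hA).symm
  · exact (P.2.comap_subtype).isNilpotent
  · obtain ⟨⟨u, v⟩, huv⟩ := hcompl.2 g
    exact ⟨u, u.2, v, v.2, huv.symm⟩

/-- A Sylow subgroup for a prime dividing `b / a` is not abelian. -/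
theorem sylow_not_comm {q t : ℕ} (hq : q.Prime) (ht : t.Prime) (hne : t ≠ q) (hqb : q ∣ b)
    (hqa : ¬ q ∣ a) (htb : t ∣ b) (hta : ¬ t ∣ a) [Fact q.Prime] :
    ∃ Q : Sylow q G, ¬ ∀ u ∈ (Q : Subgroup G), ∀ v ∈ (Q : Subgroup G), u * v = v * u := by
  by_contra hno
  push Not at hno
  haveI : Fact t.Prime := ⟨ht⟩
  -- a Sylow subgroup of a centraliser of size `a` is central in it
  have hcen : ∀ x : G, x ≠ 1 → idx x = a → (∀ w : G, (∃ i, orderOf w = q ^ i) →
      Nat.Coprime (orderOf w) (orderOf x)) → ∃ Q : Sylow q G, (Q : Subgroup G) ≤ cent x ∧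
        ∀ g ∈ cent x, (Q : Subgroup G) ≤ cent g := by
    intro x hx hxa hco
    obtain ⟨Q, hQ⟩ := exists_sylow_le_of_not_dvd (cent x) (show ¬ q ∣ idx x by rwa [hxa])
    refine ⟨Q, hQ, fun g hg w hw => ?_⟩
    by_cases hw1 : w = 1
    · rw [hw1]; exact one_mem _
    have hwQ : (Q : Subgroup G) ≤ cent w := fun v hv => mem_cent.2 (hno Q v hv w hw)
    have he := (C.central_data hx hxa hqb hqa hco Q hQ hw1 (pow_of_mem_pGroup Q.2 hw) (hQ hw) hwQ).2
    exact mem_cent_symm (he.symm.le hg)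
  obtain ⟨g, hg, hgb⟩ := C.exB
  have hbad : ∀ Q : Sylow q G, ¬ (Q : Subgroup G) ≤ cent g := fun Q h =>
    Q.not_dvd_index ((hgb ▸ hqb : q ∣ idx g).trans (Subgroup.index_dvd_of_le h))
  by_cases hgq : ∃ i, orderOf g = q ^ i
  · obtain ⟨Q, hQ⟩ := (isPGroup_zpowers hgq).exists_le_sylow
    exact hbad Q fun v hv => mem_cent.2 (hno Q v hv g (hQ (mem_zpowers g)))
  obtain ⟨s, hs, hsd, hsq⟩ : ∃ s, s.Prime ∧ s ∣ orderOf g ∧ s ≠ q := by
    by_contra h
    push Not at h
    exact hgq ⟨_, Nat.eq_prime_pow_of_unique_prime_dvd (orderOf_pos g).ne' fun {d} hd hdd => h d hd hdd⟩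
  haveI : Fact s.Prime := ⟨hs⟩
  obtain ⟨u, u', hu, -, huu, huk, hu'⟩ := exists_p_split s hs g
  have hu1 : u ≠ 1 := fun e => hu' (by rw [e, one_mul] at huu; rw [huu]; exact hsd)
  have hle := cent_le_of_mem_zpowers hu
  have hd : idx u ∣ b := hgb ▸ idx_dvd_of_le hle
  obtain ⟨x₁, hx₁, hx₁k, hx₁a⟩ := C.exists_pivot ht htb hta
  have hgc : idx g ≠ c := fun e => C.ne_bc (hgb.symm.trans e)
  have hsa : ¬ s ∣ idx x₁ := by
    rw [hx₁a]
    exact fun h => hs.one_lt.ne' (Nat.eq_one_of_dvd_coprimes (C.coprime_orderOf hg hgc) h hsd)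
  obtain ⟨m, hm⟩ := exists_conj_le_of_sylow hsa (isPGroup_zpowers huk)
  set x := m⁻¹ * x₁ * m⁻¹⁻¹ with hx
  have hux : u ∈ cent x := by
    have := conj_mem_cent (x := m⁻¹) (hm u (mem_zpowers u))
    rwa [show m⁻¹ * (m * u * m⁻¹) * m⁻¹⁻¹ = u by group] at this
  obtain ⟨j, hj⟩ := hx₁k
  have hxk : orderOf x = t ^ j := (orderOf_injective (MulAut.conj m⁻¹).toMonoidHom
    (MulEquiv.injective _) x₁).trans hj
  obtain ⟨Q, -, hQc⟩ := hcen x (fun e => hx₁ (conj_eq_one_iff.1 e)) (by rw [hx, idx_conj]; exact hx₁a)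
    fun w hw => orderOf_pow_coprime hq ht hne.symm hw ⟨j, hxk⟩
  have hQu := hQc u hux
  have hua : idx u = a := by
    rcases C.cases u hu1 with e | e | e
    · exact e
    · exact absurd (hqb.trans (e ▸ Subgroup.index_dvd_of_le hQu)) Q.not_dvd_index
    · exact absurd (e ▸ hd) C.not_c_dvd_b
  obtain ⟨Q', -, hQ'c⟩ := hcen u hu1 hua fun w hw => orderOf_pow_coprime hq hs hsq.symm hw huk
  exact hbad Q' (hQ'c g (hle (self_mem_cent g)))

/-- An element of one of two commuting normal sets has a partner in the other. -/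
theorem link {r t : ℕ} [Fact r.Prime] [Fact t.Prime] (hrt : r ≠ t) (hra : ¬ r ∣ a)
    (htb : t ∣ b) (hta : ¬ t ∣ a) {H : Subgroup G} {z : G} (hzo : ∃ i, orderOf z = t ^ i)
    (T : Sylow t G) (hzT : z ∈ (T : Subgroup G)) (hTz : (T : Subgroup G) ≤ cent z) (hz : z ≠ 1)
    (hzH : cent z = H) (hza : idx z = a) {W : Subgroup G} [W.Normal] (hzW : z ∈ W)
    (hW : W ≤ Subgroup.normalClosure ({z} : Set G)) (hWex : ∃ w ∈ W, ¬ H ≤ cent w)
    {u : G} (huk : ∃ i, orderOf u = r ^ i) (huH : ¬ H ≤ cent u)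
    (huz : ∀ g : G, u ∈ cent (g * z * g⁻¹)) :
    ∃ w ∈ W, ¬ H ≤ cent w ∧ cent u ⊓ H ≤ cent w := by
  have hu : u ≠ 1 := fun e => huH fun g _ => e ▸ mem_cent.2 (by simp)
  have huc : idx u ≠ c := fun e => C.not_commute hz hza hu e (by simpa using huz 1)
  obtain ⟨n1, -, -, -⟩ := C.not_dvd
  rcases C.cases u hu with e | e | e
  · obtain ⟨T', hT'⟩ := exists_sylow_le_of_not_dvd (cent u) (show ¬ t ∣ idx u by rwa [e])
    obtain ⟨g, hg⟩ := MulAction.exists_smul_eq G T T'
    set w := g * z * g⁻¹ with hw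
    have hT'e : (T' : Subgroup G) = (T : Subgroup G).map (MulAut.conj g).toMonoidHom := by
      rw [← hg, Sylow.coe_subgroup_smul]; rfl
    have hwT : w ∈ (T' : Subgroup G) := by rw [hT'e]; exact ⟨z, hzT, rfl⟩
    have hT'w : (T' : Subgroup G) ≤ cent w := by
      rw [hT'e]
      rintro _ ⟨v, hv, rfl⟩
      exact conj_mem_cent (hTz hv)
    obtain ⟨i, hi⟩ := hzo
    have he := (C.central_data hu e htb hta
      (fun v hv => orderOf_pow_coprime Fact.out Fact.out hrt.symm hv huk) T' hT'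
      (fun e' => hz (conj_eq_one_iff.1 e')) (pow_of_mem_pGroup T'.2 hwT) (hT' hwT) hT'w).2
    exact ⟨w, Subgroup.Normal.conj_mem inferInstance z hzW g, fun h => huH (he ▸ h),
      inf_le_left.trans he.ge⟩
  · obtain ⟨w, hw, hwH⟩ := hWex
    refine ⟨w, hw, hwH, inf_le_left.trans ?_⟩
    have hle : Subgroup.normalClosure ({z} : Set G) ≤ Subgroup.centralizer (cent u : Set G) := by
      refine (Subgroup.closure_le _).2 fun v hv => ?_
      obtain ⟨z', hz', hc⟩ := Group.mem_conjugatesOfSet_iff.1 hv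
      rw [Set.mem_singleton_iff] at hz'
      subst hz'
      obtain ⟨g, rfl⟩ := isConj_iff.1 hc
      refine mem_centralizer_iff.2 fun m hm => ?_
      obtain ⟨i, hi⟩ := hzo
      have hgo : orderOf (g * z' * g⁻¹) = t ^ i := (orderOf_injective (MulAut.conj g).toMonoidHom
        (MulEquiv.injective _) z').trans hi
      obtain ⟨hne, he, hd, -⟩ := mul_data C.center_bot hu (mem_cent.1 (huz g))
        (orderOf_pow_coprime Fact.out Fact.out hrt huk ⟨i, hgo⟩)
      rw [e] at hd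
      have e1 : cent (u * (g * z' * g⁻¹)) = cent u := by
        refine eq_of_le_of_index_eq (he ▸ inf_le_left) ?_
        rcases C.cases _ hne with e' | e' | e'
        · exact absurd (e' ▸ hd) n1
        · exact e'.trans e.symm
        · exact absurd (e' ▸ hd) C.not_dvd.2.1
      exact mem_cent.1 ((e1.symm.le.trans (he.le.trans inf_le_right)) hm)
    exact fun m hm => mem_cent.2 (mem_centralizer_iff.1 (hle (hW hw)) m hm)
  · exact absurd e huc

/-- Two primes dividing `b / a` give no abelian normal subgroup of exponent one of them. -/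
theorem false_of_duo {r t : ℕ} [Fact r.Prime] [Fact t.Prime] (hrt : r ≠ t)
    (hrb : r ∣ b) (hra : ¬ r ∣ a) (htb : t ∣ b) (hta : ¬ t ∣ a) (V₀ : Subgroup G) [V₀.Normal]
    (hab : ∀ u ∈ V₀, ∀ w ∈ V₀, u * w = w * u) (hexp : ∀ u ∈ V₀, u ^ r = 1) {v : G} (hv₀ : v ∈ V₀)
    (hv : v ≠ 1) (R : Sylow r G) (hvR : v ∈ (R : Subgroup G)) (hRv : (R : Subgroup G) ≤ cent v) :
    False := by
  have hr : r.Prime := Fact.out
  have ht : t.Prime := Fact.out
  obtain ⟨ha, -, hc⟩ := C.pos
  have hva : idx v = a := (C.prime_facts_c hr hrb hra).2 v hv fun h =>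
    R.not_dvd_index (h.trans (Subgroup.index_dvd_of_le hRv))
  have hvk : ∃ i, orderOf v = r ^ i := pow_of_mem_pGroup R.2 hvR
  -- a `t`-element with the same centraliser
  obtain ⟨T, hT⟩ := exists_sylow_le_of_not_dvd (cent v) (show ¬ t ∣ idx v by rwa [hva])
  obtain ⟨z₁, hz₁T, hz₁, hTz₁, -, i, hi⟩ :=
    exists_central C.center_bot T (C.prime_dvd_card (Or.inr (Or.inl htb)))
  obtain ⟨i, rfl⟩ : ∃ i', i = i' + 1 := ⟨i - 1, by
    rcases i with _ | i
    · rw [pow_zero] at hi; exact absurd (orderOf_eq_one_iff.1 hi) hz₁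
    · omega⟩
  set z := z₁ ^ (t ^ i) with hzdef
  have hzo : orderOf z = t := by
    rw [hzdef, orderOf_pow' _ (pow_ne_zero i ht.ne_zero), hi, Nat.gcd_eq_right (pow_dvd_pow t i.le_succ),
      pow_succ, Nat.mul_div_cancel_left _ (pow_pos ht.pos i)]
  have hz : z ≠ 1 := fun e => ht.one_lt.ne (by rw [← hzo, e, orderOf_one])
  have hzT : z ∈ (T : Subgroup G) := pow_mem hz₁T _
  have hTz : (T : Subgroup G) ≤ cent z := fun w hw => cent_le_cent_pow z₁ _ (hTz₁ w hw)
  obtain ⟨hza, hze⟩ := C.central_data hv hva htb hta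
    (fun w hw => orderOf_pow_coprime ht hr hrt.symm hw hvk) T hT hz ⟨1, by rw [hzo, pow_one]⟩ (hT hzT) hTz
  set H := cent v with hH
  set V : Subgroup G := Subgroup.normalClosure ({v} : Set G) with hV
  set W : Subgroup G := Subgroup.normalClosure ({z} : Set G) with hW
  have hV₀ : V ≤ V₀ := Subgroup.normalClosure_le_normal (Set.singleton_subset_iff.2 hv₀)
  have hVH : V₀ ≤ H := fun w hw => mem_cent.2 (hab w hw v hv₀)
  have hVz : ∀ (g : G) (u : G), u ∈ V₀ → u ∈ cent (g * z * g⁻¹) := fun g u hu => by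
    have h0 := Subgroup.Normal.conj_mem (inferInstance : V₀.Normal) u hu g⁻¹
    rw [inv_inv] at h0
    have h1 : g⁻¹ * u * g ∈ cent z := hze.symm.le (hVH h0)
    have := conj_mem_cent (x := g) h1
    rwa [show g * (g⁻¹ * u * g) * g⁻¹ = u by group] at this
  have hconjH : ∀ g : G, g * z * g⁻¹ ∈ H := fun g => mem_cent_symm (hVz g v hv₀)
  have hzz : ∀ g g' : G, Commute (g * z * g⁻¹) (g' * z * g'⁻¹) := fun g g' => by
    have h1 : (g'⁻¹ * g) * z * (g'⁻¹ * g)⁻¹ ∈ cent z := hze.symm.le (hconjH _)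
    have := conj_mem_cent (x := g') h1
    rw [show g' * ((g'⁻¹ * g) * z * (g'⁻¹ * g)⁻¹) * g'⁻¹ = g * z * g⁻¹ by group] at this
    exact mem_cent.1 this
  have hWgen : ∀ u ∈ Group.conjugatesOfSet ({z} : Set G), ∃ g, u = g * z * g⁻¹ := fun u hu => by
    obtain ⟨z', hz', hc'⟩ := Group.mem_conjugatesOfSet_iff.1 hu
    rw [Set.mem_singleton_iff] at hz'
    subst hz'
    obtain ⟨g, rfl⟩ := isConj_iff.1 hc'
    exact ⟨g, rfl⟩
  have hWH : W ≤ H := (Subgroup.closure_le _).2 fun u hu => by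
    obtain ⟨g, rfl⟩ := hWgen u hu; exact hconjH g
  haveI hWab' : IsMulCommutative ↥W := Subgroup.isMulCommutative_closure fun u hu w hw => by
    obtain ⟨g, rfl⟩ := hWgen u hu
    obtain ⟨g', rfl⟩ := hWgen w hw
    exact (hzz g g').eq
  have hWab : ∀ u ∈ W, ∀ w ∈ W, u * w = w * u := fun u hu w hw =>
    congrArg Subtype.val (IsMulCommutative.is_comm.comm (⟨u, hu⟩ : ↥W) ⟨w, hw⟩)
  have hWexp : ∀ u ∈ W, u ^ t = 1 := by
    intro u hu
    induction hu using Subgroup.closure_induction with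
    | mem u hu =>
      obtain ⟨g, rfl⟩ := hWgen u hu
      rw [conj_pow, ← hzo, pow_orderOf_eq_one, mul_one, mul_inv_cancel]
    | one => exact one_pow t
    | mul u w hu hw h1 h2 => rw [(show Commute u w from hWab u hu w hw).mul_pow, h1, h2, one_mul]
    | inv u hu h1 => rw [inv_pow, h1, inv_one]
  -- neither is central in `H`
  have hex : ∀ x : G, cent x = H → ∃ g : G, ¬ H ≤ cent (g * x * g⁻¹) := by
    intro x hxe
    by_contra hall
    push Not at hall
    have hn : H.Normal := ⟨fun h hh g => by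
      have h1 : H = cent (g * x * g⁻¹) := eq_of_le_of_index_eq (hall g) (by
        show H.index = idx (g * x * g⁻¹)
        rw [idx_conj, idx, hxe])
      rw [h1]; exact conj_mem_cent (hxe.symm.le hh)⟩
    haveI := hn
    obtain ⟨y, hy, hyc⟩ := C.exC
    haveI := (C.nilpotent_c hy hyc).1
    have hsurj : Function.Surjective ((QuotientGroup.mk' H).comp (cent y).subtype) := by
      refine ((Nat.bijective_iff_injective_and_card _).2 ⟨?_, ?_⟩).2
      · rw [injective_iff_map_eq_one]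
        intro w hw
        have hwH : (w : G) ∈ H := (QuotientGroup.eq_one_iff _).1 hw
        have h1 : orderOf (w : G) ∣ a := by
          rw [← C.ord_eq.2.1 hyc]
          exact (Subgroup.orderOf_coe w).symm ▸ orderOf_dvd_natCard w
        have h2 : orderOf (w : G) ∣ c := by
          rw [← C.ord_eq.1 hva]
          exact (Subgroup.orderOf_mk (w : G) hwH).symm.dvd.trans (orderOf_dvd_natCard _)
        exact Subtype.ext (orderOf_eq_one_iff.1 (Nat.eq_one_of_dvd_coprimes C.coprime_ac h1 h2))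
      · exact (C.ord_eq.2.1 hyc).trans hva.symm
    exact C.false_of_sub_solvable H (Group.isSolvable_of_surjective hsurj) (C.cent_a_solvable hv hva)
  obtain ⟨k, hk⟩ := C.dvd
  have hk1 : ∀ q : ℕ, q.Prime → q ∣ b → ¬ q ∣ a → q ∣ k := fun q hq hqb hqa =>
    ((Nat.Prime.dvd_mul hq).1 (hk ▸ hqb)).resolve_left hqa
  have hrel : ∀ (s : ℕ) (u : G), u ∈ H → s.Prime → (∃ i, orderOf u = s ^ i) → ¬ H ≤ cent u →
      (cent u).relIndex H = k := by
    intro s u huH hs hsk hun
    have hu : u ≠ 1 := fun e => hun fun g _ => e ▸ mem_cent.2 (by simp)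
    obtain ⟨piv, hpe, hco⟩ : ∃ piv : G, cent piv = H ∧ Nat.Coprime (orderOf piv) (orderOf u) := by
      by_cases hsr : s = r
      · exact ⟨z, hze, orderOf_pow_coprime ht hs (hsr ▸ hrt.symm) ⟨1, by rw [hzo, pow_one]⟩ hsk⟩
      · exact ⟨v, rfl, orderOf_pow_coprime hr hs (Ne.symm hsr) hvk hsk⟩
    have hp1 : piv ≠ 1 := fun e => by
      have h1 := hpe.symm.trans (e ▸ mem_center_iff_cent.1 (one_mem (Subgroup.center G)) : cent piv = ⊤)
      have h2 : idx v = 1 := Subgroup.index_eq_one.2 h1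
      omega
    have hpa : idx piv = a := by rw [idx, hpe]; exact hva
    obtain ⟨hne, he, hd, -⟩ := mul_data C.center_bot hp1
      (show Commute piv u from (mem_cent.1 (hpe.symm.le huH)).symm) hco
    rw [hpa] at hd
    rcases C.cases _ hne with e | e | e
    · exact absurd ((eq_of_le_of_index_eq (he ▸ inf_le_left) (e.trans hpa.symm)).symm.le.trans
        (he.le.trans inf_le_right)) (hpe ▸ hun)
    · have h1 := relIndex_mul_index (inf_le_left : H ⊓ cent u ≤ H)
      rw [inf_relIndex_left, ← hpe, ← he, show (cent (piv * u)).index = b from e,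
        show (cent piv).index = a from hpa, hk, mul_comm a k, hpe] at h1
      exact Nat.eq_of_mul_eq_mul_right (by omega) h1
    · exact absurd (e ▸ hd) C.not_dvd.2.2.2
  obtain ⟨g₁, hg₁⟩ := hex v rfl
  obtain ⟨g₂, hg₂⟩ := hex z hze
  have hvV : v ∈ V := Subgroup.subset_normalClosure rfl
  have hzW : z ∈ W := Subgroup.subset_normalClosure rfl
  have hVex : ∃ u ∈ V, ¬ H ≤ cent u :=
    ⟨_, Subgroup.Normal.conj_mem inferInstance v hvV g₁, hg₁⟩
  have hWex : ∃ u ∈ W, ¬ H ≤ cent u :=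
    ⟨_, Subgroup.Normal.conj_mem inferInstance z hzW g₂, hg₂⟩
  refine (⟨hr, ht, hrt, hV₀.trans hVH, hWH, inferInstance, inferInstance,
    fun u hu w hw => hab u (hV₀ hu) w (hV₀ hw), hWab, fun u hu => hexp u (hV₀ hu), hWexp,
    (show ¬ r ∣ idx v by rwa [hva]), (show ¬ t ∣ idx v by rwa [hva]), hk1 r hr hrb hra,
    hk1 t ht htb hta, hrel, hVex, hWex, fun u hu huH => ?_, fun u hu huH => ?_⟩ :
      Duo H V W r t k).false
  · refine C.link hrt hra htb hta ⟨1, by rw [hzo, pow_one]⟩ T hzT hTz hz hze hza hzW le_rfl hWex ?_ huH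
      fun g => hVz g u (hV₀ hu)
    exact pow_of_mem_pGroup (T := V₀) (fun w => ⟨1, Subtype.ext (by rw [pow_one]; exact hexp w w.2)⟩)
      (hV₀ hu)
  · refine C.link hrt.symm hta hrb hra hvk R hvR hRv hv rfl hva hvV le_rfl hVex ?_ huH fun g => ?_
    · exact pow_of_mem_pGroup (T := W) (fun w => ⟨1, Subtype.ext (by rw [pow_one]; exact hWexp w w.2)⟩) hu
    · have h0 := Subgroup.Normal.conj_mem (inferInstance : W.Normal) u hu g⁻¹
      rw [inv_inv] at h0
      have h1 : g⁻¹ * u * g ∈ cent v := hWH h0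
      have := conj_mem_cent (x := g) h1
      rwa [show g * (g⁻¹ * u * g) * g⁻¹ = u by group] at this

/-- There is no chain. -/
theorem false : False := by
  obtain ⟨ha, hb, hc⟩ := C.pos
  obtain ⟨p, hp, hpb, hpa⟩ := C.exists_prime_quot
  by_cases hone : ∀ t : ℕ, t.Prime → t ∣ b → ¬ t ∣ a → t = p
  · exact C.false_of_one_prime hp hpb hpa hone
  push Not at hone
  obtain ⟨t, ht, htb, hta, htp⟩ := hone
  by_cases hF : ∀ N : Subgroup G, N.Normal → (∀ u ∈ N, ∀ v ∈ N, u * v = v * u) → N = ⊥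
  · obtain ⟨y, hy, hyc⟩ := C.exC
    rcases (C.nilpotent_c hy hyc).2 with hab | ⟨r, i, hr, hai⟩
    · exact C.false_of_abelian hy hyc hab hF
    obtain ⟨x, hx, hxa⟩ := C.exA
    haveI := FGS75.kazarin _ le_rfl x hr (show (cent x).index = r ^ i from hxa.trans hai)
    obtain ⟨M, hMn, hM, hMab⟩ := exists_abelian_normal (Subgroup.normalClosure ({x} : Set G))
      (fun e => hx ((Subgroup.mem_bot).1 (e ▸ Subgroup.subset_normalClosure rfl)))
    exact hM (hF M hMn hMab)
  push Not at hF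
  obtain ⟨M, hMn, hMab, hM⟩ := hF
  obtain ⟨r, hr, hrd⟩ := Nat.exists_prime_and_dvd (fun e => hM (Subgroup.card_eq_one.1 e) :
    Nat.card ↥M ≠ 1)
  haveI : Fact r.Prime := ⟨hr⟩
  haveI := hMn
  let V : Subgroup G :=
    { carrier := {u | u ∈ M ∧ u ^ r = 1}
      one_mem' := ⟨one_mem _, one_pow r⟩
      mul_mem' := fun {u w} hu hw => ⟨mul_mem hu.1 hw.1, by
        rw [(show Commute u w from hMab u hu.1 w hw.1).mul_pow, hu.2, hw.2, one_mul]⟩
      inv_mem' := fun {u} hu => ⟨inv_mem hu.1, by rw [inv_pow, hu.2, inv_one]⟩ }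
  haveI hVn : V.Normal := ⟨fun u hu g => ⟨hMn.conj_mem u hu.1 g, by
    rw [conj_pow, hu.2, mul_one, mul_inv_cancel]⟩⟩
  have hVab : ∀ u ∈ V, ∀ w ∈ V, u * w = w * u := fun u hu w hw => hMab u hu.1 w hw.1
  have hVexp : ∀ u ∈ V, u ^ r = 1 := fun u hu => hu.2
  obtain ⟨v₀, hv₀M, hv₀1, hv₀o, -⟩ := exists_orderOf_mem hr hrd
  have hv₀ : v₀ ∈ V := ⟨hv₀M, by rw [← hv₀o]; exact pow_orderOf_eq_one v₀⟩
  have hVp : IsPGroup r ↥V := fun x => ⟨1, Subtype.ext (by rw [pow_one]; exact hVexp x x.2)⟩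
  obtain ⟨R⟩ : Nonempty (Sylow r G) := inferInstance
  have hVR : V ≤ (R : Subgroup G) :=
    le_sup_left.trans (R.3 (IsPGroup.to_sup_of_normal_left hVp R.2) le_sup_right).le
  obtain ⟨v, hvR, hvV, hv, hRv⟩ : ∃ v ∈ (R : Subgroup G), v ∈ V ∧ v ≠ 1 ∧
      (R : Subgroup G) ≤ cent v := by
    haveI : (V.subgroupOf (R : Subgroup G)).Normal := inferInstance
    have hne : V.subgroupOf (R : Subgroup G) ≠ ⊥ := fun e => by
      have h1 : (⟨v₀, hVR hv₀⟩ : ↥(R : Subgroup G)) = 1 :=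
        (Subgroup.mem_bot).1 (e ▸ (mem_subgroupOf.2 hv₀ :
          (⟨v₀, hVR hv₀⟩ : ↥(R : Subgroup G)) ∈ V.subgroupOf (R : Subgroup G)))
      exact hv₀1 (congrArg Subtype.val h1)
    obtain ⟨⟨⟨v, hvR⟩, hvV, hvc⟩, hv1⟩ :=
      (Subgroup.ne_bot_iff_exists_ne_one).1 (PGroup.inf_center_ne_bot R.2 _ hne)
    exact ⟨v, hvR, hvV, fun e => hv1 (Subtype.ext (Subtype.ext e)), fun w hw =>
      mem_cent.2 (congrArg Subtype.val (Subgroup.mem_center_iff.1 hvc ⟨w, hw⟩))⟩
  by_cases hra : r ∣ a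
  · -- `H` acts without fixed points on `V`
    have hrc : ¬ r ∣ c := fun h => hr.one_lt.ne' (Nat.eq_one_of_dvd_coprimes C.coprime_ac hra h)
    have hfpf : ∀ w ∈ V, w ≠ 1 → idx w = c := by
      intro w hw hw1
      have hwk : ∃ i, orderOf w = r ^ i := pow_of_mem_pGroup hVp hw
      obtain ⟨z, hz, -, hzr, hwz⟩ := exists_central_commute C.center_bot hwk
        (C.prime_dvd_card (Or.inl hra))
      have hzc := C.prime_facts_a hra z hz hzr
      rcases C.cases w hw1 with e | e | e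
      · exact absurd (mem_cent_symm hwz) (C.not_commute hw1 e hz hzc)
      · exact absurd ((dvd_orderOf_of_pow hw1 hwk).trans ((orderOf_dvd_ord w).trans (C.ord_eq.2.2 e))) hrc
      · exact e
    obtain ⟨q, t', hq, ht', hne, hqb, hqa, ht'b, ht'a, hq2⟩ : ∃ q t' : ℕ, q.Prime ∧ t'.Prime ∧ t' ≠ q ∧
        q ∣ b ∧ ¬ q ∣ a ∧ t' ∣ b ∧ ¬ t' ∣ a ∧ q ≠ 2 := by
      by_cases h2 : p = 2
      · exact ⟨t, p, ht, hp, htp.symm, htb, hta, hpb, hpa, fun e => htp (e.trans h2.symm)⟩
      · exact ⟨p, t, hp, ht, htp, hpb, hpa, htb, hta, h2⟩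
    haveI : Fact q.Prime := ⟨hq⟩
    obtain ⟨Q, hQ⟩ := C.sylow_not_comm hq ht' hne hqb hqa ht'b ht'a
    have hnc : ¬ IsCyclic ↥(Q : Subgroup G) := fun hcy => hQ fun u hu w hw =>
      congrArg Subtype.val (IsCyclic.commutative.is_comm.comm (⟨u, hu⟩ : ↥(Q : Subgroup G)) ⟨w, hw⟩)
    obtain ⟨E, -, ⟨hEc, hEe⟩, hEcard⟩ := S0126.result hq2 Q.2 hnc
    obtain ⟨e, he, he1⟩ := (Subgroup.bot_or_exists_ne_one E).resolve_left fun h => by
      rw [h, Subgroup.card_bot] at hEcard
      have := Nat.one_lt_pow two_ne_zero hq.one_lt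
      omega
    obtain ⟨f, hf, hfe⟩ : ∃ f ∈ E, f ∉ zpowers e := by
      by_contra hno
      push Not at hno
      have h1 := Subgroup.card_le_of_le (H := E) (K := zpowers e) hno
      rw [hEcard, Nat.card_zpowers] at h1
      have h2 := Nat.le_of_dvd hq.pos (orderOf_dvd_of_pow_eq_one (hEe e he))
      have := hq.two_le
      nlinarith
    letI : CommGroup ↥V :=
      { (inferInstance : Group ↥V) with mul_comm := fun u w => Subtype.ext (hVab u u.2 w w.2) }
    let ρ : ↥(Q : Subgroup G) →* MulAut ↥V := (MulAut.conjNormal (H := V)).comp (Q : Subgroup G).subtype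
    have hρ : ∀ g : ↥(Q : Subgroup G), g ≠ 1 → ∀ w : ↥V, ρ g w = w → w = 1 := by
      intro g hg w hw
      by_contra hw1
      have hw1' : (w : G) ≠ 1 := fun h => hw1 (Subtype.ext h)
      have h1 : (g : G) * w * (g : G)⁻¹ = w := congrArg Subtype.val hw
      rw [mul_inv_eq_iff_eq_mul] at h1
      have h2 : orderOf (g : G) ∣ a := by
        rw [← C.ord_eq.2.1 (hfpf w w.2 hw1')]
        exact (Subgroup.orderOf_mk (g : G) (mem_cent.2 h1)).symm.dvd.trans (orderOf_dvd_natCard _)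
      exact hqa ((dvd_orderOf_of_pow (fun h => hg (Subtype.ext h))
        (pow_of_mem_pGroup Q.2 g.2)).trans h2)
    have hfin := fixed_of_pair (M := ↥V) hq (fun w hw => by
      refine orderOf_eq_one_iff.1 (Nat.eq_one_of_dvd_coprimes ((Nat.coprime_primes hq hr).2 fun e' => hqa (e' ▸ hra))
        (orderOf_dvd_of_pow_eq_one hw) (orderOf_dvd_of_pow_eq_one (Subtype.ext (hVexp w w.2)))))
      (ρ e) (ρ f) (by rw [← map_pow, hEe e he, map_one]) (by rw [← map_pow, hEe f hf, map_one])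
      ((show Commute e f from congrArg Subtype.val (hEc.is_comm.comm ⟨e, he⟩ ⟨f, hf⟩)).map ρ)
      (fun w hw => by rw [hρ f (fun h => hfe (h ▸ one_mem _)) w hw, map_one])
      (fun j w hw => by
        rw [hρ (e * f ^ j) (fun h => ?_) w (by rw [map_mul, map_pow]; exact hw), map_one]
        have hmem : f ^ j ∈ zpowers e := by
          rw [← inv_eq_of_mul_eq_one_right h]; exact inv_mem (mem_zpowers e)
        by_cases hj : q ∣ j
        · obtain ⟨i, rfl⟩ := hj
          rw [pow_mul, hEe f hf, one_pow, mul_one] at h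
          exact he1 h
        · have hord : orderOf f = q := orderOf_eq_prime (hEe f hf) fun e' => hfe (e' ▸ one_mem _)
          obtain ⟨i, hi⟩ := exists_pow_eq_self_of_coprime (x := f) (n := j)
            (by rw [hord]; exact ((hq.coprime_iff_not_dvd).2 hj).symm)
          exact hfe (hi ▸ pow_mem hmem i)) ⟨v, hvV⟩
    exact hv (congrArg Subtype.val (hρ e he1 _ hfin))
  by_cases hrb : r ∣ b
  · by_cases hrp : r = p
    · subst hrp
      haveI : Fact t.Prime := ⟨ht⟩
      exact C.false_of_duo (Ne.symm htp) hrb hra htb hta V hVab hVexp hvV hv R hvR hRv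
    · haveI : Fact p.Prime := ⟨hp⟩
      exact C.false_of_duo hrp hrb hra hpb hpa V hVab hVexp hvV hv R hvR hRv
  -- a normal complement contains the centralisers of order `a` and centralises `V`
  have hrc : r ∣ c := (C.c_or_a hr (hrd.trans (Subgroup.card_subgroup_dvd_card M))).resolve_left hra
  obtain ⟨L, hL, -, hmem, hdvd⟩ := exists_inf_comp {r} (by simpa using hr)
    (by simpa using C.comp_of_not_dvd hr hrc hrb)
  obtain ⟨y, hy, hyc⟩ := C.exC
  have hyL : y ∈ L := hmem y fun s hs hd => by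
    rw [Finset.mem_singleton] at hs
    subst hs
    exact hra (hd.trans ((orderOf_dvd_ord y).trans (C.ord_eq.2.1 hyc).dvd))
  have hdis : Disjoint V L := disjoint_iff.2 ((Subgroup.eq_bot_iff_forall _).2 fun u hu => by
    by_contra hu1
    exact hdvd r (by simp) ((dvd_orderOf_of_pow hu1 (pow_of_mem_pGroup hVp hu.1)).trans
      ((Subgroup.orderOf_mk u hu.2).symm.dvd.trans (orderOf_dvd_natCard _))))
  have hcomm := commute_of_normal_of_disjoint V L hVn hL hdis v y hvV hyL
  have h1 : orderOf v ∣ a := by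
    rw [← C.ord_eq.2.1 hyc]
    exact (Subgroup.orderOf_mk v (mem_cent.2 hcomm.eq)).symm.dvd.trans (orderOf_dvd_natCard _)
  exact hra ((dvd_orderOf_of_pow hv (pow_of_mem_pGroup R.2 hvR)).trans h1)

end Chain

end Cfsg.Agent.Centre3
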