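import Cfsg.Agent.Centre3.Base

/-!
Products of elements with coprime class sizes when there is no abelian normal subgroup.
-/

set_option autoImplicit false

namespace Cfsg.Agent.Centre3

open Subgroup CsPSL Rank3
open scoped Classical

variable {G : Type*} [Group G] [Finite G] (hZ : Subgroup.center G = ⊥)
  (hF : ∀ N : Subgroup G, N.Normal → (∀ u ∈ N, ∀ v ∈ N, u * v = v * u) → N = ⊥)
include hZ hF

theorem idx_lt_idx_mul {x y : G} (hx : x ≠ 1)
    (h : (idx x).Coprime (idx y)) :
    idx y < idx (x * y) := by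
  set D : Set G := Set.range fun t : G => t * y * t⁻¹ with hD
  set E : Set G := Set.range fun t : G => t * (x * y) * t⁻¹ with hE
  have hDc : D.ncard = idx y := ClassSize.ncard_range_conj y
  have hEc : E.ncard = idx (x * y) := ClassSize.ncard_range_conj (x * y)
  have hsub : ∀ s : G, (fun d => s * x * s⁻¹ * d) '' D ⊆ E := by
    rintro s _ ⟨_, ⟨t, rfl⟩, rfl⟩
    obtain ⟨c, hc⟩ := isConj_iff.1 (ClassSize.isConj_mul_of_coprime_index h
      (isConj_iff.2 ⟨s, rfl⟩) (isConj_iff.2 ⟨t, rfl⟩))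
    exact ⟨c, hc⟩
  have hcard : ∀ s : G, ((fun d => s * x * s⁻¹ * d) '' D).ncard = idx y := fun s => by
    rw [Set.ncard_image_of_injective _ (mul_right_injective _), hDc]
  have hle : idx y ≤ idx (x * y) := by
    rw [← hcard 1, ← hEc]
    exact Set.ncard_le_ncard (hsub 1) (Set.toFinite _)
  refine lt_of_le_of_ne hle fun he => ?_
  have heq : ∀ s : G, (fun d => s * x * s⁻¹ * d) '' D = E := fun s =>
    Set.eq_of_subset_of_ncard_le (hsub s) (by rw [hcard, hEc, he]) (Set.toFinite _)
  let K : Subgroup G :=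
    { carrier := {g | (fun d => g * d) '' D = D}
      one_mem' := by simp
      mul_mem' := fun {g k} hg hk => by
        change (fun d => g * k * d) '' D = D
        rw [show (fun d => g * k * d) = (fun d => g * d) ∘ (fun d => k * d) by
          funext d; simp [mul_assoc], Set.image_comp, hk, hg]
      inv_mem' := fun {g} hg => by
        change (fun d => g⁻¹ * d) '' D = D
        conv_lhs => rw [← hg]
        rw [Set.image_image]
        simp }
  have hK : ∀ g, g ∈ K ↔ (fun d => g * d) '' D = D := fun g => Iff.rfl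
  have hDn : ∀ (u : G), ∀ d ∈ D, u * d * u⁻¹ ∈ D := by
    rintro u _ ⟨t, rfl⟩; exact ⟨u * t, by group⟩
  have hKn : K.Normal := ⟨fun g hg u => by
    rw [hK] at hg ⊢
    refine Set.eq_of_subset_of_ncard_le ?_ ?_ (Set.toFinite _)
    · rintro _ ⟨d, hd, rfl⟩
      have h1 : g * (u⁻¹ * d * u⁻¹⁻¹) ∈ D := hg.subset ⟨_, hDn u⁻¹ d hd, rfl⟩
      convert hDn u _ h1 using 1
      group
    · rw [Set.ncard_image_of_injective _ (mul_right_injective _)]⟩
  have hmem : ∀ s : G, x⁻¹ * (s * x * s⁻¹) ∈ K := fun s => by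
    rw [hK]
    calc (fun d => x⁻¹ * (s * x * s⁻¹) * d) '' D
        = (fun d => x⁻¹ * d) '' ((fun d => s * x * s⁻¹ * d) '' D) := by
          rw [Set.image_image]; simp [mul_assoc]
      _ = (fun d => x⁻¹ * d) '' ((fun d => 1 * x * 1⁻¹ * d) '' D) := by rw [heq, heq]
      _ = D := by rw [Set.image_image]; simp
  -- the orbits of `K` on `D` are regular
  haveI := hKn
  have hKd : Nat.card ↥K ∣ idx y := by
    letI : MulAction ↥K ↥D :=
      { smul := fun k d => ⟨(k : G) * d, ((hK _).1 k.2).subset ⟨_, d.2, rfl⟩⟩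
        one_smul := fun d => Subtype.ext (one_mul _)
        mul_smul := fun k l d => Subtype.ext (mul_assoc _ _ _) }
    have hfree : ∀ d : ↥D, MulAction.stabilizer ↥K d = ⊥ := fun d => by
      refine (Subgroup.eq_bot_iff_forall _).2 fun k hk => Subtype.ext ?_
      have h1 : (k : G) * (d : G) = d := congrArg Subtype.val hk
      exact mul_eq_right.1 h1
    have h1 := Nat.card_congr (MulAction.selfEquivSigmaOrbitsQuotientStabilizer ↥K ↥D)
    haveI := Fintype.ofFinite (Quotient (MulAction.orbitRel ↥K ↥D))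
    rw [Nat.card_sigma] at h1
    rw [← hDc, ← Nat.card_coe_set_eq, h1]
    refine Finset.dvd_sum fun o _ => ?_
    rw [hfree, Nat.card_congr QuotientGroup.quotientBot.toEquiv]
  have hKx : ∀ s : G, K ≤ cent (s * x * s⁻¹) := fun s => by
    rw [← relIndex_eq_one]
    refine Nat.eq_one_of_dvd_coprimes h ?_ (((cent (s * x * s⁻¹)).relIndex_dvd_card K).trans hKd)
    rw [← idx_conj s x]
    exact relIndex_dvd_index_of_normal' _ K
  refine hx ((mem_center_iff_eq_one hZ).1 (Subgroup.mem_center_iff.2 fun s => ?_))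
  have hc : (⟨_, hmem s⟩ : ↥K) ∈ Subgroup.center ↥K := Subgroup.mem_center_iff.2 fun k => Subtype.ext <| by
    have h1 : Commute (k : G) x := mem_cent.1 (by simpa using hKx 1 k.2)
    have h2 : Commute (k : G) (s * x * s⁻¹) := mem_cent.1 (hKx s k.2)
    exact (h1.inv_right.mul_right h2).eq
  have hbot := hF ((Subgroup.center ↥K).map K.subtype) inferInstance
    (by rintro _ ⟨k, hk, rfl⟩ _ ⟨l, hl, rfl⟩
        exact congrArg Subtype.val (Subgroup.mem_center_iff.1 hl k))
  have h1 : x⁻¹ * (s * x * s⁻¹) ∈ (Subgroup.center ↥K).map K.subtype := ⟨_, hc, rfl⟩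
  rw [hbot, Subgroup.mem_bot, inv_mul_eq_one, eq_mul_inv_iff_mul_eq] at h1
  exact h1.symm

theorem idx_lt_mul {x y : G} (hx : x ≠ 1) (hy : y ≠ 1) (h : (idx x).Coprime (idx y)) :
    idx x < idx (x * y) ∧ idx y < idx (x * y) := by
  refine ⟨?_, idx_lt_idx_mul hZ hF hx h⟩
  have := idx_lt_idx_mul hZ hF (x := y⁻¹) (y := x⁻¹) (inv_ne_one.2 hy)
    (by simpa [idx, cent_inv] using h.symm)
  simpa [idx, cent_inv, ← mul_inv_rev] using this

end Cfsg.Agent.Centre3
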