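import Cfsg.Agent.Centre3.ChainCard
import Cfsg.Agent.Centre3.Strict
import Cfsg.Agent.CsPSL.Quotient
import Cfsg.Agent.SolvStruct.KegelWielandt

/-!
Three class sizes: the abelian regular case.
-/

set_option autoImplicit false

namespace Cfsg.Agent.Centre3

open Subgroup CsPSL Rank3
open scoped Classical

namespace Chain

variable {G : Type*} [Group G] [Finite G] {a b c : ℕ} (C : Chain G a b c)
include C

theorem cent_c {y : G} (hy : y ≠ 1) (hyc : idx y = c)
    (hab : ∀ u ∈ cent y, ∀ v ∈ cent y, u * v = v * u) :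
    ∀ w ∈ cent y, w ≠ 1 → idx w = c ∧ cent w = cent y := by
  intro w hw hw1
  have := (C.isolated_c hy hyc).2 w (not_mem_center C.center_bot hw1)
    (Or.inr fun u hu => mem_cent.2 (hab u hu w hw))
  exact ⟨by rw [idx, this]; exact hyc, this⟩

/-- The centraliser of an element of class size `c` is not abelian. -/
theorem false_of_abelian {y₀ : G} (hy₀ : y₀ ≠ 1) (hy₀c : idx y₀ = c)
    (hab : ∀ u ∈ cent y₀, ∀ v ∈ cent y₀, u * v = v * u)
    (hF : ∀ N : Subgroup G, N.Normal → (∀ u ∈ N, ∀ v ∈ N, u * v = v * u) → N = ⊥) : False := by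
  obtain ⟨p, hp, hpb, hpa⟩ := C.exists_prime_quot
  haveI : Fact p.Prime := ⟨hp⟩
  obtain ⟨x₀, hx₀, hx₀k, hx₀a⟩ := C.exists_pivot hp hpb hpa
  obtain ⟨ha, hb, hc⟩ := C.pos
  obtain ⟨n1, n2, n3, n4⟩ := C.not_dvd
  set Ω := G ⧸ cent x₀
  have hΩ : Nat.card Ω = a := hx₀a
  have hfix : ∀ (g s : G), g • (QuotientGroup.mk s : Ω) = QuotientGroup.mk s ↔
      g ∈ cent (s * x₀ * s⁻¹) := fun g s => by
    rw [MulAction.Quotient.smul_mk, QuotientGroup.eq, cent_conj]
    constructor
    · intro h
      refine ⟨_, inv_mem h, ?_⟩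
      show s * ((g * s)⁻¹ * s)⁻¹ * s⁻¹ = g
      group
    · rintro ⟨t, ht, rfl⟩
      show (s * t * s⁻¹ * s)⁻¹ * s ∈ cent x₀
      rw [show (s * t * s⁻¹ * s)⁻¹ * s = t⁻¹ by group]
      exact inv_mem ht
  have hfree : ∀ y : G, y ≠ 1 → idx y = c → ∀ β : Ω, y • β ≠ β := by
    intro y hy hyc β hβ
    obtain ⟨s, rfl⟩ := QuotientGroup.mk_surjective β
    refine C.not_commute (x := s * x₀ * s⁻¹) ?_ ?_ hy hyc ((hfix y s).1 hβ)
    · exact fun e => hx₀ (conj_eq_one_iff.1 e)
    · rw [idx_conj]; exact hx₀a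
  -- elements of class size `a` or `b` have fixed points
  have hfixed : ∀ g : G, g ≠ 1 → idx g ≠ c → ∃ β : Ω, g • β = β := by
    intro g hg hgc
    have key : ∀ (r : ℕ), r.Prime → ∀ v : G, v ∈ zpowers g → (∃ k, orderOf v = r ^ k) →
        v ≠ 1 → ∃ s : G, v ∈ cent (s * x₀ * s⁻¹) := by
      intro r hr v hv ⟨k, hk⟩ hv1
      haveI : Fact r.Prime := ⟨hr⟩
      have hra : ¬ r ∣ idx x₀ := by
        rw [hx₀a]
        intro hd
        have h1 : r ∣ orderOf v := by
          rcases k with _ | k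
          · exact absurd (orderOf_eq_one_iff.1 (by simpa using hk)) hv1
          · rw [hk]; exact dvd_pow_self r k.succ_ne_zero
        exact hr.one_lt.ne' (Nat.eq_one_of_dvd_coprimes (C.coprime_orderOf hg hgc) hd
          (h1.trans (orderOf_dvd_of_mem_zpowers hv)))
      obtain ⟨t, ht⟩ := exists_conj_le_of_sylow hra
        (IsPGroup.of_card (n := k) (by rw [Nat.card_zpowers, hk]) : IsPGroup r ↥(zpowers v))
      refine ⟨t⁻¹, ?_⟩
      have := conj_mem_cent (x := t⁻¹) (ht v (mem_zpowers v))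
      rwa [show t⁻¹ * (t * v * t⁻¹) * t⁻¹⁻¹ = v by group] at this
    by_cases hpg : ∃ k, orderOf g = p ^ k
    · obtain ⟨s, hs⟩ := key p hp g (mem_zpowers g) hpg hg
      exact ⟨_, (hfix g s).2 hs⟩
    obtain ⟨r, hr, hrd, hrp⟩ : ∃ r, r.Prime ∧ r ∣ orderOf g ∧ r ≠ p := by
      by_contra hne
      push Not at hne
      exact hpg ⟨_, (Nat.eq_prime_pow_of_unique_prime_dvd (orderOf_pos g).ne'
        fun {d} hd hdd => hne d hd hdd)⟩
    haveI : Fact r.Prime := ⟨hr⟩
    obtain ⟨v, v', hv, hv', hvv, hvk, hv'r⟩ := exists_p_split r hr g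
    have hv1 : v ≠ 1 := fun e => hv'r (by rw [e, one_mul] at hvv; rw [hvv]; exact hrd)
    obtain ⟨s, hs⟩ := key r hr v hv hvk hv1
    have hle := cent_le_of_mem_zpowers hv
    have hd : idx v ∣ idx g := idx_dvd_of_le hle
    rcases C.cases v hv1 with e | e | e
    · -- `cent v` is conjugate to `cent x₀`
      obtain ⟨S, hS⟩ := exists_sylow_le_of_not_dvd (cent v)
        (show ¬ p ∣ idx v by rw [e]; exact hpa)
      obtain ⟨t, ht⟩ := exists_conj_le_of_sylow (C := cent x₀)
        (show ¬ p ∣ idx x₀ by rw [hx₀a]; exact hpa) S.2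
      set x₂ := t⁻¹ * x₀ * t⁻¹⁻¹ with hx₂
      have hS' : ∀ w ∈ (S : Subgroup G), w ∈ cent x₂ := fun w hw => by
        have := conj_mem_cent (x := t⁻¹) (ht w hw)
        rwa [show t⁻¹ * (t * w * t⁻¹) * t⁻¹⁻¹ = w by group] at this
      have hx₂1 : x₂ ≠ 1 := fun e => hx₀ (conj_eq_one_iff.1 e)
      have hx₂a : idx x₂ = a := by rw [hx₂, idx_conj]; exact hx₀a
      obtain ⟨j, hj⟩ := hx₀k
      have hx₂o : orderOf x₂ = p ^ j := (orderOf_injective (MulAut.conj t⁻¹).toMonoidHom
        (MulEquiv.injective _) x₀).trans hj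
      have hx₂S : x₂ ∈ (S : Subgroup G) := by
        have hp' : IsPGroup p ↥((zpowers x₂) ⊔ (S : Subgroup G) : Subgroup G) :=
          IsPGroup.to_sup_of_normal_right' (IsPGroup.of_card (n := j) (by rw [Nat.card_zpowers, hx₂o]))
            S.2 (zpowers_le.2 (Subgroup.centralizer_le_normalizer _
              (Subgroup.mem_centralizer_iff.2 fun w hw => mem_cent.1 (hS' w hw))))
        exact (S.3 hp' le_sup_right) ▸ (le_sup_left : zpowers x₂ ≤ _) (mem_zpowers x₂)
      have hc2 : Commute v x₂ := (mem_cent.1 (hS hx₂S)).symm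
      have he := cent_mul_eq_inf hc2 (orderOf_pow_coprime hr hp hrp hvk ⟨j, hx₂o⟩)
      have hne : v * x₂ ≠ 1 := fun e' => by
        have := mem_center_iff_cent.1 ((mem_center_iff_eq_one C.center_bot).2 e')
        rw [he, inf_eq_top_iff] at this
        exact hv1 ((mem_center_iff_eq_one C.center_bot).1 (mem_center_iff_cent.2 this.1))
      have hnp : ¬ p ∣ idx (v * x₂) := fun hd' => S.not_dvd_index (hd'.trans
        (Subgroup.index_dvd_of_le (show (S : Subgroup G) ≤ cent (v * x₂) from
          he ▸ le_inf hS fun w hw => hS' w hw)))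
      have hea : idx (v * x₂) = a := by
        rcases C.cases _ hne with e' | e' | e'
        · exact e'
        · exact absurd (e' ▸ hpb) hnp
        · exact absurd (e' ▸ (C.prime_facts_c hp hpb hpa).1) hnp
      have e1 : cent (v * x₂) = cent v := eq_of_le_of_index_eq (he ▸ inf_le_left) (hea.trans e.symm)
      have e2 : cent (v * x₂) = cent x₂ :=
        eq_of_le_of_index_eq (he ▸ inf_le_right) (hea.trans hx₂a.symm)
      exact ⟨_, (hfix g t⁻¹).2 ((e1.symm.trans e2).le (hle (self_mem_cent g)))⟩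
    · have hgb : idx g = b := by
        rcases C.cases g hg with e' | e' | e'
        · exact absurd (e' ▸ e ▸ hd) n1
        · exact e'
        · exact absurd e' hgc
      have e1 : cent g = cent v := eq_of_le_of_index_eq hle (hgb.trans e.symm)
      exact ⟨_, (hfix g s).2 (mem_cent_symm (e1.symm.le (mem_cent_symm hs)))⟩
    · exfalso
      rcases C.cases g hg with e' | e' | e'
      · exact n3 (e' ▸ e ▸ hd)
      · exact C.not_c_dvd_b (e' ▸ e ▸ hd)
      · exact hgc e'
  -- the abelian centraliser of `y₀` is regular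
  have hA1 : ∀ y ∈ cent y₀, ∀ β : Ω, y • β = β → y = 1 := fun y hy β hβ => by
    by_contra hy1
    exact hfree y hy1 ((C.cent_c hy₀ hy₀c hab) y hy hy1).1 β hβ
  have hAcard : Nat.card ↥(cent y₀) = a := (C.ord_eq).2.1 hy₀c
  have hreg : ∀ β γ : Ω, ∃ y : ↥(cent y₀), (y : G) • β = γ := by
    intro β γ
    have hinj : Function.Injective fun y : ↥(cent y₀) => (y : G) • β := by
      intro y y' e
      have h1 := hA1 ((y' : G)⁻¹ * y) (mul_mem (inv_mem y'.2) y.2) β (by
        rw [mul_smul]; exact inv_smul_eq_iff.2 e)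
      exact Subtype.ext (inv_mul_eq_one.1 h1).symm
    exact ((Nat.bijective_iff_injective_and_card _).2 ⟨hinj, hAcard.trans hΩ.symm⟩).2 γ
  -- elements of class size `a` fix exactly one point
  have huniq : ∀ x : G, x ≠ 1 → idx x = a → ∀ β γ : Ω, x • β = β → x • γ = γ → β = γ := by
    intro x hx hxa
    let Y : Ω → ↥(cent y₀) := fun β => (hreg β (x⁻¹ • β)).choose
    have hY : ∀ β, (Y β : G) • β = x⁻¹ • β := fun β => (hreg β (x⁻¹ • β)).choose_spec
    have hsurj : Function.Surjective Y := by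
      intro y
      by_cases hy : (y : G) = 1
      · obtain ⟨β, hβ⟩ := hfixed x hx fun e => C.ne_ac (hxa.symm.trans e)
        refine ⟨β, Subtype.ext ?_⟩
        rw [hy]
        refine hA1 _ (Y β).2 β ?_
        rw [hY, inv_smul_eq_iff, hβ]
      · have hyc := ((C.cent_c hy₀ hy₀c hab) y y.2 hy).1
        obtain ⟨h2, h3⟩ := idx_lt_mul C.center_bot hF hx hy
          (by rw [hxa, hyc]; exact C.coprime_ac)
        rw [hyc] at h3
        have hxy : x * y ≠ 1 := fun e => by
          rw [e] at h3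
          have h1' : idx (1 : G) = 1 := Subgroup.index_eq_one.2 (mem_center_iff_cent.1 (one_mem _))
          omega
        obtain ⟨β, hβ⟩ := hfixed (x * y) hxy (by omega)
        rw [mul_smul] at hβ
        refine ⟨β, Subtype.ext ?_⟩
        have h4 : ((Y β : G))⁻¹ * y = 1 := hA1 _ (mul_mem (inv_mem (Y β).2) y.2) β (by
          rw [mul_smul, inv_smul_eq_iff, hY, eq_inv_smul_iff, hβ])
        exact inv_mul_eq_one.1 h4
    have hinj : Function.Injective Y :=
      ((Nat.bijective_iff_surjective_and_card _).2 ⟨hsurj, hΩ.trans hAcard.symm⟩).1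
    intro β γ hβ hγ
    refine hinj (Subtype.ext ((hA1 _ (Y β).2 β ?_).trans (hA1 _ (Y γ).2 γ ?_).symm))
    · rw [hY, inv_smul_eq_iff, hβ]
    · rw [hY, inv_smul_eq_iff, hγ]
  -- only the identity fixes two points
  have hTI : ∀ w : G, w ≠ 1 → ∀ β γ : Ω, w • β = β → w • γ = γ → β = γ := by
    intro w hw β γ hβ hγ
    by_contra hne
    obtain ⟨r, u, hr, hu, huw, huk⟩ := exists_part hw
    obtain ⟨m, rfl⟩ := Subgroup.mem_zpowers_iff.1 huw
    have hpowfix : ∀ δ : Ω, w • δ = δ → w ^ m • δ = δ := fun δ hδ =>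
      (zpow_mem (show w ∈ MulAction.stabilizer G δ from hδ) m : w ^ m ∈ MulAction.stabilizer G δ)
    have hβ' := hpowfix β hβ
    have hγ' := hpowfix γ hγ
    generalize w ^ m = v at hu huk hβ' hγ'
    obtain ⟨s, rfl⟩ := QuotientGroup.mk_surjective β
    obtain ⟨t, rfl⟩ := QuotientGroup.mk_surjective γ
    rw [hfix] at hβ' hγ'
    set xs := s * x₀ * s⁻¹ with hxs
    set xt := t * x₀ * t⁻¹ with hxt
    have hxs1 : xs ≠ 1 := fun e => hx₀ (conj_eq_one_iff.1 e)
    have hxsa : idx xs = a := by rw [hxs, idx_conj]; exact hx₀a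
    have hxt1 : xt ≠ 1 := fun e => hx₀ (conj_eq_one_iff.1 e)
    have hxta : idx xt = a := by rw [hxt, idx_conj]; exact hx₀a
    have hsfix : xs • (QuotientGroup.mk s : Ω) = QuotientGroup.mk s := (hfix _ _).2 (self_mem_cent _)
    have htfix : xt • (QuotientGroup.mk t : Ω) = QuotientGroup.mk t := (hfix _ _).2 (self_mem_cent _)
    have hnc : xt ∉ cent xs := fun hc => by
      have h1 : xs • xt • (QuotientGroup.mk s : Ω) = xt • QuotientGroup.mk s := by
        rw [← mul_smul, ← mem_cent.1 hc, mul_smul, hsfix]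
      have h2 := huniq xs hxs1 hxsa _ _ h1 hsfix
      exact hne (huniq xt hxt1 hxta _ _ h2 htfix)
    have hvb : idx v = b := by
      rcases C.cases v hu with e | e | e
      · exact absurd (huniq v hu e _ _ ((hfix _ _).2 hβ') ((hfix _ _).2 hγ')) hne
      · exact e
      · exact absurd hβ' (C.not_commute hxs1 hxsa hu e)
    have hvle : ∀ (z : G), z ∈ cent v → ∀ {r' : ℕ}, r'.Prime → r' ≠ r →
        (∃ k, orderOf z = r' ^ k) → cent v ≤ cent z := fun z hz r' hr' hne' hzk => by
      have he := cent_mul_eq_inf (show Commute v z from (mem_cent.1 hz).symm)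
        (orderOf_pow_coprime hr hr' (Ne.symm hne') huk hzk)
      have hne1 : v * z ≠ 1 := fun e => by
        have := mem_center_iff_cent.1 ((mem_center_iff_eq_one C.center_bot).2 e)
        rw [he, inf_eq_top_iff] at this
        exact hu ((mem_center_iff_eq_one C.center_bot).1 (mem_center_iff_cent.2 this.1))
      have hd : b ∣ idx (v * z) := hvb ▸ idx_dvd_of_le (he ▸ inf_le_left)
      have e1 : cent (v * z) = cent v := by
        refine eq_of_le_of_index_eq (he ▸ inf_le_left) ?_
        rcases C.cases _ hne1 with e | e | e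
        · exact absurd (e ▸ hd) n1
        · exact e.trans hvb.symm
        · exact absurd (e ▸ hd) n2
      exact e1 ▸ he ▸ inf_le_right
    by_cases hrp : r = p
    · subst hrp
      by_cases hq : ∃ q, q.Prime ∧ q ≠ r ∧ q ∣ ord v
      · obtain ⟨q, hq, hqr, hqd⟩ := hq
        haveI : Fact q.Prime := ⟨hq⟩
        obtain ⟨⟨z, hzv⟩, hzo⟩ := exists_prime_orderOf_dvd_card' (G := ↥(cent v)) q hqd
        rw [Subgroup.orderOf_mk] at hzo
        have hzk : ∃ k, orderOf z = q ^ k := ⟨1, by rw [hzo, pow_one]⟩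
        have hz1 : z ≠ 1 := fun e => hq.one_lt.ne (by rw [← hzo, e, orderOf_one])
        have hle := hvle z hzv hq hqr hzk
        have hxsz : xs ∈ cent z := hle (mem_cent_symm hβ')
        have hxtz : xt ∈ cent z := hle (mem_cent_symm hγ')
        rcases C.cases z hz1 with e | e | e
        · obtain ⟨δ, hδ⟩ := hfixed z hz1 fun e' => C.ne_ac (e.symm.trans e')
          have hδ2 : ∀ x : G, x ∈ cent z → x • δ = δ := fun x hx => by
            refine huniq z hz1 e _ _ ?_ hδ
            rw [← mul_smul, ← mem_cent.1 hx, mul_smul, hδ]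
          exact hne ((huniq xs hxs1 hxsa _ _ hsfix (hδ2 xs hxsz)).trans
            (huniq xt hxt1 hxta _ _ (hδ2 xt hxtz) htfix))
        · have hc2 : Commute z xs := (mem_cent.1 hxsz).symm
          obtain ⟨j, hj⟩ := hx₀k
          have hxso : orderOf xs = r ^ j := (orderOf_injective (MulAut.conj s).toMonoidHom
            (MulEquiv.injective _) x₀).trans hj
          have he := cent_mul_eq_inf hc2 (orderOf_pow_coprime hq hr hqr hzk ⟨j, hxso⟩)
          have hne1 : z * xs ≠ 1 := fun e' => by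
            have := mem_center_iff_cent.1 ((mem_center_iff_eq_one C.center_bot).2 e')
            rw [he, inf_eq_top_iff] at this
            exact hz1 ((mem_center_iff_eq_one C.center_bot).1 (mem_center_iff_cent.2 this.1))
          have hd : b ∣ idx (z * xs) := e ▸ idx_dvd_of_le (he ▸ inf_le_left)
          have e1 : cent (z * xs) = cent z := by
            refine eq_of_le_of_index_eq (he ▸ inf_le_left) ?_
            rcases C.cases _ hne1 with e' | e' | e'
            · exact absurd (e' ▸ hd) n1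
            · exact e'.trans e.symm
            · exact absurd (e' ▸ hd) n2
          exact hnc ((e1 ▸ he ▸ inf_le_right : cent z ≤ cent xs) hxtz)
        · exact C.not_commute hxs1 hxsa hz1 e (mem_cent_symm hxsz)
      · -- then some other prime of `c` divides `b / a`
        push Not at hq
        obtain ⟨q, hq', hqr, hqc⟩ : ∃ q, q.Prime ∧ q ≠ r ∧ q ∣ c := by
          by_contra hno
          push Not at hno
          have h1 := Nat.eq_prime_pow_of_unique_prime_dvd (p := r) (show c ≠ 0 by omega) fun {d} hd hdd => by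
            by_contra hdr
            exact hno d hd hdr hdd
          -- `G` is then a product of two nilpotent subgroups
          refine C.not_solvable (SolvStruct.isSolvable_of_nilpotent_product
            (H := cent y₀) (K := cent x₀) ?_ ?_ fun g => ?_)
          · letI : CommGroup ↥(cent y₀) :=
              { (inferInstance : Group ↥(cent y₀)) with
                mul_comm := fun u v => Subtype.ext (hab u u.2 v v.2) }
            exact CommGroup.isNilpotent
          · exact (IsPGroup.of_card ((C.ord_eq).1 hx₀a |>.trans h1)).isNilpotent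
          · obtain ⟨y, hy⟩ := hreg (QuotientGroup.mk 1) (g • QuotientGroup.mk 1)
            refine ⟨y, y.2, (y : G)⁻¹ * g, ?_, by group⟩
            have h2 : ((y : G)⁻¹ * g) • (QuotientGroup.mk 1 : Ω) = QuotientGroup.mk 1 := by
              rw [mul_smul, ← hy, inv_smul_smul]
            simpa using (hfix _ _).1 h2
        haveI : Fact q.Prime := ⟨hq'⟩
        have hqa : ¬ q ∣ a := fun h => hq'.one_lt.ne'
          (Nat.eq_one_of_dvd_coprimes (C.coprime_ac) h hqc)
        have hqb : q ∣ b := by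
          have h1 : q ∣ ord v * idx v := by
            rw [show ord v * idx v = Nat.card G from ord_mul_index v, C.card_eq]
            exact hqc.mul_left a
          rw [hvb] at h1
          exact ((Nat.Prime.dvd_mul hq').1 h1).resolve_left (hq q hq' hqr)
        obtain ⟨z₀, hz₀, ⟨j, hz₀k⟩, hz₀a⟩ := C.exists_pivot hq' hqb hqa
        obtain ⟨δ, hδ⟩ := hfixed z₀ hz₀ fun e => C.ne_ac (hz₀a.symm.trans e)
        obtain ⟨d, rfl⟩ := QuotientGroup.mk_surjective δ
        rw [hfix] at hδ
        set z := s * d⁻¹ * z₀ * (s * d⁻¹)⁻¹ with hz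
        have hz1 : z ≠ 1 := fun e => hz₀ (conj_eq_one_iff.1 e)
        have hza : idx z = a := by rw [hz, idx_conj]; exact hz₀a
        have hzxs : z ∈ cent xs := by
          have := conj_mem_cent (x := s * d⁻¹) hδ
          rwa [show s * d⁻¹ * (d * x₀ * d⁻¹) * (s * d⁻¹)⁻¹ = xs by rw [hxs]; group] at this
        have hzfix : z • (QuotientGroup.mk s : Ω) = QuotientGroup.mk s := (hfix _ _).2 hzxs
        have hzcent : cent z = cent xs := by
          refine eq_of_le_of_index_eq (fun x hx => (hfix x s).1 ?_) (hza.trans hxsa.symm)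
          refine huniq z hz1 hza _ _ ?_ hzfix
          rw [← mul_smul, ← mem_cent.1 hx, mul_smul, hzfix]
        have hle := hvle z (mem_cent_symm (hzcent.symm.le hβ')) hq' hqr
          ⟨j, (orderOf_injective (MulAut.conj (s * d⁻¹)).toMonoidHom (MulEquiv.injective _) z₀).trans
            hz₀k⟩
        exact hnc (hzcent.le (hle (mem_cent_symm hγ')))
    · obtain ⟨j, hj⟩ := hx₀k
      have hle := hvle xs (mem_cent_symm hβ') hp (Ne.symm hrp)
        ⟨j, (orderOf_injective (MulAut.conj s).toMonoidHom (MulEquiv.injective _) x₀).trans hj⟩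
      exact hnc (hle (mem_cent_symm hγ'))
  -- count: the elements of class size `c` form the centraliser of `y₀`
  set S₁ : Set G := {g | g ≠ 1 ∧ idx g ≠ c} with hS₁
  haveI : Finite Ω := inferInstance
  have hS₁c : S₁.ncard = a * (c - 1) := by
    haveI : Nonempty Ω := ⟨QuotientGroup.mk 1⟩
    rw [← hΩ, ← Set.ncard_univ]
    refine ncard_eq_mul_of_fibers S₁ Set.univ
      (fun g => Classical.epsilon fun β : Ω => g • β = β) (c - 1) (fun _ _ => Set.mem_univ _) ?_
    intro β _
    obtain ⟨s, rfl⟩ := QuotientGroup.mk_surjective β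
    have : {g ∈ S₁ | (Classical.epsilon fun β : Ω => g • β = β) = QuotientGroup.mk s} =
        (cent (s * x₀ * s⁻¹) : Set G) \ {1} := by
      ext g
      constructor
      · rintro ⟨⟨hg, hgc⟩, he⟩
        have := Classical.epsilon_spec (hfixed g hg hgc)
        rw [he] at this
        exact ⟨(hfix g s).1 this, hg⟩
      · rintro ⟨hg, hg1⟩
        have hgc : idx g ≠ c := fun e => hfree g hg1 e _ ((hfix g s).2 hg)
        exact ⟨⟨hg1, hgc⟩, hTI g hg1 _ _
          (Classical.epsilon_spec (hfixed g hg1 hgc)) ((hfix g s).2 hg)⟩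
    rw [this, Set.ncard_sdiff_singleton_of_mem (one_mem _), ← Nat.card_coe_set_eq]
    refine congrArg (· - 1) ?_
    show Nat.card ↥(cent (s * x₀ * s⁻¹)) = c
    exact (C.ord_eq).1 (by rw [idx_conj]; exact hx₀a)
  set S₂ : Set G := {g | g ≠ 1 ∧ idx g = c} with hS₂
  have hS₂c : S₂.ncard + 1 = a := by
    have hun : S₁ ∪ S₂ ∪ {1} = Set.univ := by
      ext g
      simp only [hS₁, hS₂, Set.mem_union, Set.mem_setOf_eq, Set.mem_singleton_iff, Set.mem_univ,
        iff_true]
      tauto
    have hd1 : Disjoint S₁ S₂ := Set.disjoint_left.2 fun g hg hg' => hg.2 hg'.2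
    have hd2 : Disjoint (S₁ ∪ S₂) ({1} : Set G) := by
      rw [Set.disjoint_singleton_right]
      rintro (⟨h, -⟩ | ⟨h, -⟩) <;> exact h rfl
    have hn := congrArg Set.ncard hun
    rw [Set.ncard_union_eq hd2, Set.ncard_union_eq hd1, Set.ncard_singleton, Set.ncard_univ,
      C.card_eq, hS₁c] at hn
    have h1 : a * (c - 1) + a = a * c := by
      obtain ⟨c', rfl⟩ : ∃ c', c = c' + 1 := ⟨c - 1, by omega⟩
      rw [Nat.add_sub_cancel]; ring
    omega
  have hsub : (cent y₀ : Set G) \ {1} ⊆ S₂ := fun y hy =>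
    ⟨hy.2, ((C.cent_c hy₀ hy₀c hab) y hy.1 hy.2).1⟩
  have hAS : (cent y₀ : Set G) \ {1} = S₂ := by
    refine Set.eq_of_subset_of_ncard_le hsub ?_ (Set.toFinite _)
    rw [Set.ncard_sdiff_singleton_of_mem (one_mem _)]
    have : (cent y₀ : Set G).ncard = a := (Nat.card_coe_set_eq _).symm.trans hAcard
    omega
  have hn : (cent y₀).Normal := ⟨fun y hy t => by
    by_cases hy1 : y = 1
    · rw [hy1]; simp
    have h1 : t * y * t⁻¹ ∈ S₂ :=
      ⟨fun e => hy1 (conj_eq_one_iff.1 e), by rw [idx_conj]; exact ((C.cent_c hy₀ hy₀c hab) y hy hy1).1⟩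
    rw [← hAS] at h1
    exact h1.1⟩
  haveI := hn
  haveI : IsMulCommutative ↥(cent y₀) := ⟨⟨fun u v => Subtype.ext (hab u u.2 v v.2)⟩⟩
  have hsurj : Function.Surjective ((QuotientGroup.mk' (cent y₀)).comp (cent x₀).subtype) := by
    intro g
    obtain ⟨g, rfl⟩ := QuotientGroup.mk'_surjective _ g
    obtain ⟨y, hy⟩ := hreg (QuotientGroup.mk 1) (g • QuotientGroup.mk 1)
    have h2 : ((y : G)⁻¹ * g) • (QuotientGroup.mk 1 : Ω) = QuotientGroup.mk 1 := by
      rw [mul_smul, ← hy, inv_smul_smul]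
    refine ⟨⟨(y : G)⁻¹ * g, by simpa using (hfix _ _).1 h2⟩, ?_⟩
    show QuotientGroup.mk ((y : G)⁻¹ * g) = (QuotientGroup.mk g : G ⧸ cent y₀)
    rw [QuotientGroup.mk_mul, (QuotientGroup.eq_one_iff _).2 (inv_mem y.2), one_mul]
  haveI := C.cent_a_solvable hx₀ hx₀a
  haveI : Group.IsSolvable (G ⧸ cent y₀) := Group.isSolvable_of_surjective hsurj
  haveI : Group.IsSolvable ↥(cent y₀) :=
    Group.isSolvable_of_comm fun u v => Subtype.ext (hab u u.2 v v.2)
  exact C.not_solvable ((Group.isSolvable_iff_subgroup_quotient (cent y₀)).2 ⟨inferInstance, inferInstance⟩)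

end Chain

end Cfsg.Agent.Centre3
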