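import Cfsg.Agent.Centre3.ChainFalse
import Cfsg.Agent.Centre3.Antichain
import Cfsg.Agent.Centre3.CA

/-!
Centreless groups with at most three nontrivial class sizes.
-/

set_option autoImplicit false

namespace Cfsg.Agent.Centre3

open Subgroup CsPSL Rank3

theorem main {G : Type*} [Group G] [Finite G] (hZ : Subgroup.center G = ⊥)
    (h : Nat.card {n : ℕ | 1 < n ∧ ∃ x : G, (Subgroup.centralizer ({x} : Set G)).index = n} ≤ 3) :
    Group.IsSolvable G ∨ ∃ a : ℕ, 0 < a ∧
      Nonempty (G ≃* Matrix.ProjectiveSpecialLinearGroup (Fin 2) (GaloisField 2 a)) := by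
  by_cases hns : Group.IsSolvable G
  · exact Or.inl hns
  refine Or.inr ?_
  set S := {n : ℕ | 1 < n ∧ ∃ x : G, (Subgroup.centralizer ({x} : Set G)).index = n} with hS
  have hfin : S.Finite := (Set.finite_le_nat (Nat.card G)).subset fun n hn => by
    obtain ⟨-, x, rfl⟩ := hn
    exact Nat.le_of_dvd Nat.card_pos (idx_dvd_card x)
  rw [Nat.card_coe_set_eq] at h
  have hmem : ∀ g : G, g ≠ 1 → idx g ∈ S := fun g hg => ⟨one_lt_idx hZ hg, g, rfl⟩
  have hnc : ∀ g : G, g ∉ Subgroup.center G → g ≠ 1 := fun g hg e => hg (e ▸ one_mem _)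
  have h3 : S.ncard = 3 := by
    by_contra hne
    have h2 : S.ncard ≤ 2 := by omega
    apply hns
    obtain ⟨m, n, hmn⟩ : ∃ m n, S ⊆ {m, n} := by
      rcases Nat.lt_or_ge S.ncard 2 with hlt | hge
      · haveI : Finite ↥S := hfin
        rcases (Set.ncard_le_one_iff_subsingleton (s := S)).1 (by omega) |>.eq_empty_or_singleton
          with e | ⟨m, e⟩
        · exact ⟨0, 0, by rw [e]; exact Set.empty_subset _⟩
        · exact ⟨m, m, by rw [e]; simp⟩
      · obtain ⟨m, n, -, e⟩ := Set.ncard_eq_two.1 (show S.ncard = 2 by omega)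
        exact ⟨m, n, e.le⟩
    have hcases : ∀ g : G, g ≠ 1 → idx g = m ∨ idx g = n := fun g hg => by
      simpa using hmn (hmem g hg)
    by_cases hm : ∀ g : G, g ≠ 1 → idx g = m
    · exact ThreeSizes.solvable_of_twoSizes (q := 2) Nat.prime_two fun x _ hx => hm x (hnc x hx)
    push Not at hm
    obtain ⟨g, hg, hgm⟩ := hm
    have hgn : idx g = n := (hcases g hg).resolve_left hgm
    by_cases hn : ∀ g : G, g ≠ 1 → idx g = n
    · exact ThreeSizes.solvable_of_twoSizes (q := 2) Nat.prime_two fun x _ hx => hn x (hnc x hx)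
    push Not at hn
    obtain ⟨g', hg', hg'n⟩ := hn
    have hg'm : idx g' = m := (hcases g' hg').resolve_right hg'n
    have h1 : 1 < n := hgn ▸ one_lt_idx hZ hg
    have h1' : 1 < m := hg'm ▸ one_lt_idx hZ hg'
    have hall : ∀ x : G, idx x = 1 ∨ idx x = m ∨ idx x = n := fun x => by
      by_cases hx : x = 1
      · exact Or.inl (hx ▸ idx_one)
      · exact Or.inr (hcases x hx)
    rcases lt_trichotomy m n with hlt | heq | hlt
    · exact ThreeSizes.main n m hlt h1' hall
    · exact absurd (hgn.trans heq.symm) hgm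
    · exact ThreeSizes.main m n hlt h1 fun x => (hall x).imp_right Or.symm
  obtain ⟨i, j, k, hij, hik, hjk, hset⟩ := Set.ncard_eq_three.1 h3
  have hcases : ∀ g : G, g ≠ 1 → idx g = i ∨ idx g = j ∨ idx g = k := fun g hg => by
    have h1 : idx g ∈ ({i, j, k} : Set ℕ) := hset ▸ hmem g hg
    simpa using h1
  have hex : ∀ n : ℕ, n = i ∨ n = j ∨ n = k → ∃ g : G, g ≠ 1 ∧ idx g = n := fun n hn => by
    obtain ⟨h1, g, hg⟩ : n ∈ S := by rw [hset]; simpa using hn
    refine ⟨g, fun e => ?_, hg⟩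
    subst e
    rw [show (Subgroup.centralizer ({(1 : G)} : Set G)).index = 1 from idx_one] at hg
    omega
  have hA : ∀ g h : G, g ≠ 1 → h ≠ 1 → idx g ∣ idx h → idx g = idx h := by
    intro g h hg hh hd
    by_contra hne
    obtain ⟨c, hca, hcb, hc, hall⟩ : ∃ c, idx g ≠ c ∧ idx h ≠ c ∧ (c = i ∨ c = j ∨ c = k) ∧
        ∀ n, n = i ∨ n = j ∨ n = k → n = idx g ∨ n = idx h ∨ n = c := by
      rcases hcases g hg with e | e | e <;> rcases hcases h hh with e' | e' | e'
      all_goals first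
        | (exfalso; exact hne (e.trans e'.symm))
        | (first
            | refine ⟨i, ?_, ?_, Or.inl rfl, ?_⟩ <;> omega
            | refine ⟨j, ?_, ?_, Or.inr (Or.inl rfl), ?_⟩ <;> omega
            | refine ⟨k, ?_, ?_, Or.inr (Or.inr rfl), ?_⟩ <;> omega)
    exact Chain.false (a := idx g) (b := idx h) (c := c)
      ⟨hd, hne, hca, hcb, fun y hy => hall _ (hcases y hy), ⟨g, hg, rfl⟩, ⟨h, hh, rfl⟩, hex c hc,
        hZ, hns⟩
  have hab := all_abC hZ hns hA hcases
  refine psl_of_ct (fun N hN hNab => no_abelian_normal hZ hns hA N hN hNab)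
    (fun x hx => hab x hx) (fun x hx => normalizer_ne hZ hns hA hx (hab x hx)) ?_
  rcases Nat.even_or_odd (Nat.card G) with he | ho
  · exact he
  · exact absurd (S0205.result ho) hns

end Cfsg.Agent.Centre3
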